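import Groth.Prelude.Def_W4c4chowquasisplitNorm
import Groth.Agent.CycLib.Push
import Groth.Agent.WeilLib.PointCount
import Mathlib.GroupTheory.Sylow
import Mathlib.FieldTheory.Galois.Basic

/-!
# Zero cycles on a point
-/

universe u

open AlgebraicGeometry CategoryTheory

namespace Groth.Agent.QsAlgLib

variable (k : Type u) [Field k]

local notation "P" => Spec (CommRingCat.of k)

theorem residueDegree_specMap {F : Type u} [Field F] [Algebra k F] (x : Spec (CommRingCat.of F)) :
    (Spec.map (CommRingCat.ofHom (algebraMap k F))).residueDegree x = Module.finrank k F := by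
  let f := Spec.map (CommRingCat.ofHom (algebraMap k F))
  letI := (VarDim.resHom f x).toAlgebra
  have h1 : f.residueDegree x = Module.finrank k ((Spec (CommRingCat.of F)).residueField x) :=
    WeilLib.residueDegree_eq_finrank f x
  rw [h1]
  have hlin : ∀ c : k, VarDim.resHom f x c = VarDim.resHom (𝟙 (Spec (CommRingCat.of F))) x (algebraMap k F c) := by
    intro c
    have hnat := Scheme.ΓSpecIso_inv_naturality (CommRingCat.ofHom (algebraMap k F))
    have h2 := congrArg (fun φ => φ.hom c) hnat
    simp only [CommRingCat.comp_apply, CommRingCat.hom_ofHom] at h2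
    show _ = (Spec (CommRingCat.of F)).residue x _
    exact congrArg (fun t => (Spec (CommRingCat.of F)).residue x
      ((Spec (CommRingCat.of F)).presheaf.germ ⊤ x trivial t)) h2.symm
  let φ : F →ₐ[k] (Spec (CommRingCat.of F)).residueField x :=
    { (VarDim.resHom (𝟙 (Spec (CommRingCat.of F))) x) with commutes' := fun c => (hlin c).symm }
  exact (LinearEquiv.ofBijective φ.toLinearMap
    ⟨φ.toRingHom.injective, WeilLib.surjective_resHom_spec (k₀ := F) x⟩).finrank_eq.symm

/-- The only point. -/
noncomputable abbrev pt : P := IsLocalRing.closedPoint k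

theorem eq_pt {F : Type u} [Field F] (x : Spec (CommRingCat.of F)) : x = IsLocalRing.closedPoint F :=
  Subsingleton.elim (α := PrimeSpectrum F) _ _

theorem map_apply_pt {F : Type u} [Field F] [Algebra k F] (α : AlgebraicCycle (Spec (CommRingCat.of F)) ℤ) :
    AlgebraicCycle.map (Spec.map (CommRingCat.ofHom (algebraMap k F))) (fun _ => (0 : ℤ)) (fun _ => (0 : ℤ)) α (pt k) =
      α (IsLocalRing.closedPoint F) * (Module.finrank k F : ℤ) := by
  rw [CycLib.map_apply']
  have hpre : (Spec.map (CommRingCat.ofHom (algebraMap k F))) ⁻¹' {pt k} = {IsLocalRing.closedPoint F} :=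
    Set.ext fun x => iff_of_true (Subsingleton.elim (α := PrimeSpectrum k) _ _) (eq_pt x)
  refine ((finsum_mem_congr hpre fun _ _ => rfl).trans finsum_mem_singleton).trans ?_
  simp only [AlgebraicCycle.mapCoeff, if_pos]
  rw [residueDegree_specMap]

theorem eq_zero_of_mem_ratTriv {a : ↥(ChowOps.zk P (fun _ => (0 : ℤ)) 0)}
    (ha : a ∈ ChowOps.ratTriv P (fun _ => (0 : ℤ)) 0) : a = 0 := by
  refine (AddSubgroup.closure_le (K := (⊥ : AddSubgroup ↥(ChowOps.zk P (fun _ => (0 : ℤ)) 0)))).2 ?_ ha
  rintro b ⟨ι, ξ, f, hδ, -, -, hval⟩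
  haveI : IsEmpty ι := ⟨fun i => by simpa using hδ i⟩
  refine Subtype.ext ?_
  ext x
  show (b : AlgebraicCycle P ℤ) x = 0
  rw [hval x, finsum_of_isEmpty]

/-- The degree on the Chow group of a point. -/
noncomputable def degHom : ChowOps.CH P (fun _ => (0 : ℤ)) 0 →+ ℤ :=
  QuotientAddGroup.lift _
    { toFun := fun a => (a : AlgebraicCycle P ℤ) (pt k), map_zero' := rfl, map_add' := fun _ _ => rfl }
    (fun a ha => by rw [eq_zero_of_mem_ratTriv k ha]; rfl)

theorem degHom_cl (α : AlgebraicCycle P ℤ) (h : α ∈ Cyc.Zk P (fun _ => (0 : ℤ)) 0) :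
    degHom k (ChowOps.cl α h) = α (pt k) := rfl

theorem degHom_injective : Function.Injective (degHom k) := by
  rw [injective_iff_map_eq_zero]
  intro c hc
  obtain ⟨⟨a, ha⟩, rfl⟩ := QuotientAddGroup.mk'_surjective _ c
  have : a = 0 := by
    ext x
    rw [show x = pt k from eq_pt x]
    exact hc
  subst this
  exact map_zero (QuotientAddGroup.mk' (ChowOps.ratTriv P (fun _ => (0 : ℤ)) 0))

theorem degHom_surjective : Function.Surjective (degHom k) := fun z => by
  classical
  let α : AlgebraicCycle P ℤ := Function.locallyFinsuppWithin.single (pt k) z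
  refine ⟨ChowOps.cl α (fun x hx => absurd rfl hx), ?_⟩
  rw [degHom_cl]
  exact Function.locallyFinsuppWithin.single_apply.trans (if_pos rfl)

/-- The degree isomorphism. -/
noncomputable def degEquiv : ChowOps.CH P (fun _ => (0 : ℤ)) 0 ≃+ ℤ :=
  AddEquiv.ofBijective (degHom k) ⟨degHom_injective k, degHom_surjective k⟩

theorem map_ptNormSubgroup (K : Type u) [Field K] [Algebra k K] :
    (QsChow.ptNormSubgroup k K).map (degEquiv k).toAddMonoidHom =
      AddSubgroup.closure {d : ℤ | ∃ (F : IntermediateField k K) (_ : FiniteDimensional k F) (_ : F ≠ ⊥) (m : ℤ),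
        d = m * (Module.finrank k F : ℤ)} := by
  classical
  unfold QsChow.ptNormSubgroup
  rw [AddMonoidHom.map_closure]
  congr 1
  ext d
  constructor
  · rintro ⟨c, ⟨F, hF, hne, α, h, rfl⟩, rfl⟩
    exact ⟨F, hF, hne, α (IsLocalRing.closedPoint _), (degHom_cl k _ h).trans (map_apply_pt k α)⟩
  · rintro ⟨F, hF, hne, m, rfl⟩
    let α : AlgebraicCycle (Spec (CommRingCat.of (F : Type u))) ℤ :=
      Function.locallyFinsuppWithin.single (IsLocalRing.closedPoint (F : Type u)) m
    refine ⟨_, ⟨F, hF, hne, α, fun x hx => absurd rfl hx, rfl⟩, (degHom_cl k _ _).trans ((map_apply_pt k α).trans ?_)⟩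
    rw [show α (IsLocalRing.closedPoint _) = m from Function.locallyFinsuppWithin.single_apply.trans (if_pos rfl)]

variable {k}
variable {K : Type u} [Field K] [Algebra k K]

/-- A subgroup of the Galois group gives an intermediate field of the matching degree. -/
theorem exists_field_of_subgroup (L : IntermediateField k K) [FiniteDimensional k L] [IsGalois k L]
    (H : Subgroup (L ≃ₐ[k] L)) :
    ∃ F : IntermediateField k K, FiniteDimensional k F ∧ Module.finrank k F * Nat.card H = Module.finrank k L := by
  let F₀ := IntermediateField.fixedField H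
  let e := IntermediateField.liftAlgEquiv F₀
  refine ⟨IntermediateField.lift F₀, e.toLinearEquiv.finiteDimensional, ?_⟩
  rw [← e.toLinearEquiv.finrank_eq, ← IntermediateField.finrank_fixedField_eq_card H, Module.finrank_mul_finrank]

end Groth.Agent.QsAlgLib
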