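import Groth.Prelude.Def_W4c4chowquasisplitPn
import Mathlib

/-!
# The truncated algebra over its invariant subalgebra

`F₂[ε]` is free on `1, ε₂` over `A = F₂[e₁, …, e_s]`, and the truncation relations become
`P_i + e₁^{m_i} ε₂` with `P_i` congruent to powers of distinct variables modulo `e₁`.
-/

open MvPolynomial Finset

namespace Groth.Agent.QsAlgLib

section Monomial

variable {σ R : Type*} [CommRing R] [DecidableEq σ]

theorem mem_span_powers_of_relation (N : σ → ℕ) (T : Finset σ) {l : σ} (hl : l ∉ T)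
    (v : σ → MvPolynomial σ R) (h : ∑ i ∈ insert l T, v i * X i ^ N i = 0) :
    v l ∈ Ideal.span ((fun i => X i ^ N i) '' (T : Set σ)) := by
  classical
  rw [show (fun i => (X i : MvPolynomial σ R) ^ N i) '' (T : Set σ) =
      (fun s => monomial s (1 : R)) '' ((fun i => Finsupp.single i (N i)) '' (T : Set σ)) by
    rw [Set.image_image]; simp only [X_pow_eq_monomial], mem_ideal_span_monomial_image]
  intro d hd
  by_contra hno
  push_neg at hno
  apply mem_support_iff.1 hd
  have hc := congrArg (coeff (d + Finsupp.single l (N l))) h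
  rw [coeff_sum, coeff_zero, sum_insert hl, sum_eq_zero, add_zero, X_pow_eq_monomial, coeff_mul_monomial, mul_one] at hc
  · exact hc
  · intro i hi
    rw [X_pow_eq_monomial, coeff_mul_monomial', if_neg]
    intro hle
    refine hno _ ⟨i, hi, rfl⟩ (Finsupp.single_le_iff.2 ?_)
    have := hle i
    rw [Finsupp.add_apply, Finsupp.single_eq_same, Finsupp.single_eq_of_ne (ne_of_mem_of_not_mem hi hl), add_zero] at this
    exact this

end Monomial

/-- `A`. -/
abbrev A (n : ℕ) : Type := MvPolynomial (Fin (QsChow.numVars n)) (ZMod 2)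

variable (n : ℕ) (hn : 2 ≤ n)

/-- Index of `e₁`. -/
def i0 : Fin (QsChow.numVars n) := ⟨0, Nat.succ_pos _⟩

include hn in
theorem two_le_numVars : 2 ≤ QsChow.numVars n := by unfold QsChow.numVars; omega

/-- Index of `e₂`. -/
def i1 : Fin (QsChow.numVars n) := ⟨1, two_le_numVars n hn⟩

/-- `e₁`. -/
noncomputable def ea : A n := X (i0 n)

/-- `e₂`. -/
noncomputable def eb : A n := X (i1 n hn)

/-- `2^k_j`. -/
def K (i : Fin (QsChow.numVars n)) : ℕ := 2 ^ QsChow.klog n (i.val + 1)

/-- `S_j` in `A`. -/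
noncomputable def S (i : Fin (QsChow.numVars n)) : A n :=
  ∑ t ∈ range (QsChow.klog n (i.val + 1)), ea n ^ (K n i - 2 ^ (t + 1)) * eb n hn ^ 2 ^ t

/-- Constant coordinates of the relations. -/
noncomputable def Pc (i : Fin (QsChow.numVars n)) : A n :=
  if i.val = 0 then ea n ^ n
  else if i.val = 1 then S n hn i
  else X i ^ K n i + ea n ^ ((2 * (i.val + 1) - 4) * K n i) * S n hn i

/-- `m_i`. -/
def mexp (i : Fin (QsChow.numVars n)) : ℕ := (2 * (i.val + 1) - 3) * K n i - 1

/-- Linear coordinates of the relations. -/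
noncomputable def Mc (i : Fin (QsChow.numVars n)) : A n := if i.val = 0 then 0 else ea n ^ mexp n i

include hn in
theorem le_exp (i : Fin (QsChow.numVars n)) (hi : i.val ≠ 0) : n ≤ (2 * (i.val + 1) - 3) * K n i := by
  have hlt := Nat.lt_pow_succ_log_self (b := 2) (by norm_num) ((2 * n - 1) / (2 * (i.val + 1) - 3))
  have h2 : (2 * n - 1) < (2 * (i.val + 1) - 3) * (2 * K n i) := by
    have h := (Nat.div_lt_iff_lt_mul (show 0 < 2 * (i.val + 1) - 3 by omega)).1 hlt
    rw [Nat.succ_eq_add_one, pow_succ'] at h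
    rw [K, QsChow.klog]
    linarith
  rw [show (2 * (i.val + 1) - 3) * (2 * K n i) = 2 * ((2 * (i.val + 1) - 3) * K n i) by ring] at h2
  omega

include hn in
theorem klog_pos : 1 ≤ QsChow.klog n 2 := by
  rcases Nat.eq_zero_or_pos (QsChow.klog n 2) with h | h
  · have := le_exp n hn (i1 n hn) (by simp [i1])
    simp [K, i1, h] at this
    omega
  · exact h

/-- `A[b]/(b² + e₁ b + e₂)`. -/
abbrev Q : Type := AdjoinRoot (Polynomial.X ^ 2 + Polynomial.C (ea n) * Polynomial.X + Polynomial.C (eb n hn) : Polynomial (A n))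

/-- The root `b`. -/
noncomputable def rb : Q n hn := AdjoinRoot.root _

/-- The structure map. -/
noncomputable def ofA : A n →ₐ[ZMod 2] Q n hn := IsScalarTower.toAlgHom (ZMod 2) (A n) (Q n hn)

theorem two_eq_zero {S : Type*} [CommRing S] [Algebra (ZMod 2) S] (x : S) : x + x = 0 := by
  rw [← two_mul, show (2 : S) = algebraMap (ZMod 2) S 2 by rw [map_ofNat], show (2 : ZMod 2) = 0 from rfl,
    map_zero, zero_mul]

theorem rb_sq : rb n hn ^ 2 = ofA n hn (ea n) * rb n hn + ofA n hn (eb n hn) := by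
  have h := AdjoinRoot.eval₂_root
    (Polynomial.X ^ 2 + Polynomial.C (ea n) * Polynomial.X + Polynomial.C (eb n hn) : Polynomial (A n))
  simp only [Polynomial.eval₂_add, Polynomial.eval₂_mul, Polynomial.eval₂_pow, Polynomial.eval₂_X,
    Polynomial.eval₂_C] at h
  change rb n hn ^ 2 + ofA n hn (ea n) * rb n hn + ofA n hn (eb n hn) = 0 at h
  have h2 := two_eq_zero (ofA n hn (ea n) * rb n hn + ofA n hn (eb n hn))
  linear_combination h - h2

theorem qmonic : (Polynomial.X ^ 2 + Polynomial.C (ea n) * Polynomial.X + Polynomial.C (eb n hn) : Polynomial (A n)).Monic := by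
  monicity!

theorem qdeg : (Polynomial.X ^ 2 + Polynomial.C (ea n) * Polynomial.X + Polynomial.C (eb n hn) : Polynomial (A n)).natDegree = 2 := by
  compute_degree!

theorem coord_unique {g h : A n} (e : ofA n hn g + ofA n hn h * rb n hn = 0) : g = 0 ∧ h = 0 := by
  have hd : (Polynomial.X ^ 2 + Polynomial.C (ea n) * Polynomial.X + Polynomial.C (eb n hn) : Polynomial (A n)) ∣
      Polynomial.C g + Polynomial.C h * Polynomial.X := by
    rw [← AdjoinRoot.mk_eq_zero, map_add, map_mul, AdjoinRoot.mk_C, AdjoinRoot.mk_C, AdjoinRoot.mk_X]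
    exact e
  have hz : Polynomial.C g + Polynomial.C h * Polynomial.X = 0 := by
    refine Polynomial.eq_zero_of_dvd_of_natDegree_lt hd ?_
    rw [qdeg]
    exact lt_of_le_of_lt (Polynomial.natDegree_add_le _ _) (by
      rw [Polynomial.natDegree_C]; exact lt_of_le_of_lt (max_le (Nat.zero_le 1)
        (le_trans (Polynomial.natDegree_C_mul_le _ _) Polynomial.natDegree_X_le)) (by norm_num))
  constructor
  · simpa using congrArg (fun p => Polynomial.coeff p 0) hz
  · simpa using congrArg (fun p => Polynomial.coeff p 1) hz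

theorem coord_exists (z : Q n hn) : ∃ g h : A n, z = ofA n hn g + ofA n hn h * rb n hn := by
  induction z using AdjoinRoot.induction_on with
  | _ p =>
    induction p using Polynomial.induction_on with
    | C a => exact ⟨a, 0, by rw [AdjoinRoot.mk_C, map_zero, zero_mul, add_zero]; rfl⟩
    | add p q hp hq =>
      obtain ⟨g, h, e⟩ := hp; obtain ⟨g', h', e'⟩ := hq
      exact ⟨g + g', h + h', by rw [map_add, e, e', map_add, map_add]; ring⟩
    | monomial k a ih =>
      obtain ⟨g, h, e⟩ := ih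
      refine ⟨h * eb n hn, g + h * ea n, ?_⟩
      rw [pow_succ (Polynomial.X : Polynomial (A n)) k, ← mul_assoc, map_mul, e, AdjoinRoot.mk_X, map_add, map_mul, map_mul,
        show AdjoinRoot.root _ = rb n hn from rfl]
      linear_combination (ofA n hn h) * rb_sq n hn

theorem rb_pow (k : ℕ) : rb n hn ^ 2 ^ k = ofA n hn (ea n) ^ (2 ^ k - 1) * rb n hn +
    ofA n hn (∑ t ∈ range k, ea n ^ (2 ^ k - 2 ^ (t + 1)) * eb n hn ^ 2 ^ t) := by
  haveI : CharP (Q n hn) 2 := CharTwo.of_one_ne_zero_of_two_eq_zero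
    (fun h => one_ne_zero (α := A n) (coord_unique n hn (g := 1) (h := 0) (by rw [map_one, h, map_zero, zero_mul, add_zero])).1)
    (by rw [← one_add_one_eq_two]; exact two_eq_zero 1)
  induction k with
  | zero => simp
  | succ k ih =>
    rw [pow_succ 2 k, pow_mul, ih, CharTwo.add_sq, mul_pow, rb_sq, ← map_pow (ofA n hn), ← map_pow (ofA n hn),
      ← map_pow (ofA n hn), CharTwo.sum_sq, sum_range_succ, map_add]
    have hk : 1 ≤ 2 ^ k := Nat.one_le_two_pow
    rw [show ∑ t ∈ range k, (ea n ^ (2 ^ k - 2 ^ (t + 1)) * eb n hn ^ 2 ^ t) ^ 2 =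
        ∑ t ∈ range k, ea n ^ (2 ^ k * 2 - 2 ^ (t + 2)) * eb n hn ^ 2 ^ (t + 1) from sum_congr rfl fun t _ => by
      rw [mul_pow, ← pow_mul, ← pow_mul, Nat.sub_mul, pow_succ 2 (t + 1), pow_succ 2 t]]
    rw [show 2 ^ k * 2 - 1 = (2 ^ k - 1) * 2 + 1 by omega, pow_succ (ofA n hn (ea n)), ← pow_mul (ea n)]
    have hshift : ∑ t ∈ range k, ea n ^ (2 ^ k * 2 - 2 ^ (t + 2)) * eb n hn ^ 2 ^ (t + 1) + ea n ^ ((2 ^ k - 1) * 2) * eb n hn =
        ∑ t ∈ range (k + 1), ea n ^ (2 ^ k * 2 - 2 ^ (t + 1)) * eb n hn ^ 2 ^ t := by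
      rw [sum_range_succ' _ k]
      simp only [show (2 ^ k - 1) * 2 = 2 ^ k * 2 - 2 by omega, zero_add, pow_one, pow_zero]
    have hsum := congrArg (ofA n hn) hshift
    rw [sum_range_succ] at hsum
    simp only [map_add, map_mul, map_pow] at hsum ⊢
    linear_combination hsum

/-- Change of variables. -/
noncomputable def psi : QsChow.FreeP n →ₐ[ZMod 2] Q n hn :=
  aeval fun i => if i.val = 0 then ofA n hn (ea n) else if i.val = 1 then rb n hn
    else ofA n hn (X i) + ofA n hn (ea n) ^ (2 * (i.val + 1) - 4) * rb n hn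

theorem psi_rel (i : Fin (QsChow.numVars n)) :
    psi n hn ((X i : QsChow.FreeP n) ^ QsChow.bound n i) = ofA n hn (Pc n hn i) + ofA n hn (Mc n i) * rb n hn := by
  rw [map_pow, psi, aeval_X, QsChow.bound, Pc, Mc]
  by_cases h0 : i.val = 0
  · rw [if_pos h0, if_pos h0, if_pos h0, if_pos h0, map_pow, map_zero, zero_mul, add_zero]
  · rw [if_neg h0, if_neg h0, if_neg h0, if_neg h0]
    have hS : ofA n hn (S n hn i) =
        ofA n hn (∑ t ∈ range (QsChow.klog n (i.val + 1)),
          ea n ^ (2 ^ QsChow.klog n (i.val + 1) - 2 ^ (t + 1)) * eb n hn ^ 2 ^ t) := rfl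
    by_cases h1 : i.val = 1
    · rw [if_pos h1, if_pos h1, rb_pow, ← hS, map_pow, mexp, K, show 2 * (i.val + 1) - 3 = 1 by omega, one_mul]
      ring
    · rw [if_neg h1, if_neg h1]
      haveI : CharP (Q n hn) 2 := CharTwo.of_one_ne_zero_of_two_eq_zero
        (fun h => one_ne_zero (α := A n) (coord_unique n hn (g := 1) (h := 0) (by rw [map_one, h, map_zero, zero_mul, add_zero])).1)
        (by rw [← one_add_one_eq_two]; exact two_eq_zero 1)
      haveI : ExpChar (Q n hn) 2 := ExpChar.prime Nat.prime_two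
      rw [add_pow_expChar_pow, mul_pow, rb_pow, ← hS, map_add, map_mul, map_pow, map_pow, map_pow, ← pow_mul, mexp,
        show K n i = 2 ^ QsChow.klog n (i.val + 1) from rfl]
      have hk : 1 ≤ 2 ^ QsChow.klog n (i.val + 1) := Nat.one_le_two_pow
      rw [show (2 * (i.val + 1) - 3) * 2 ^ QsChow.klog n (i.val + 1) - 1 =
          (2 * (i.val + 1) - 4) * 2 ^ QsChow.klog n (i.val + 1) + (2 ^ QsChow.klog n (i.val + 1) - 1) by
        rw [show 2 * (i.val + 1) - 3 = (2 * (i.val + 1) - 4) + 1 by omega, add_mul, one_mul]; omega, pow_add]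
      ring

/-- Membership in the truncation ideal, in coordinates. -/
theorem psi_mem {F : QsChow.FreeP n} (hF : F ∈ QsChow.truncIdeal n) {g h : A n}
    (e : psi n hn F = ofA n hn g + ofA n hn h * rb n hn) :
    ∃ u v : Fin (QsChow.numVars n) → A n,
      g = ∑ i, (u i * Pc n hn i + v i * Mc n i * eb n hn) ∧
      h = ∑ i, (u i * Mc n i + v i * (Pc n hn i + ea n * Mc n i)) := by
  obtain ⟨c, hc⟩ := Ideal.mem_span_range_iff_exists_fun.1 hF
  choose u v huv using fun i => coord_exists n hn (psi n hn (c i))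
  refine ⟨u, v, ?_⟩
  have key : psi n hn F = ofA n hn (∑ i, (u i * Pc n hn i + v i * Mc n i * eb n hn)) +
      ofA n hn (∑ i, (u i * Mc n i + v i * (Pc n hn i + ea n * Mc n i))) * rb n hn := by
    rw [← hc, map_sum, map_sum, map_sum, sum_mul, ← sum_add_distrib]
    refine sum_congr rfl fun i _ => ?_
    rw [map_mul, psi_rel, huv i]
    simp only [map_add, map_mul]
    linear_combination (ofA n hn (v i) * ofA n hn (Mc n i)) * rb_sq n hn
  rw [key] at e
  have := coord_unique n hn (g := (∑ i, (u i * Pc n hn i + v i * Mc n i * eb n hn)) - g)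
    (h := (∑ i, (u i * Mc n i + v i * (Pc n hn i + ea n * Mc n i))) - h)
    (by rw [map_sub, map_sub]; linear_combination e)
  exact ⟨(sub_eq_zero.1 this.1).symm, (sub_eq_zero.1 this.2).symm⟩

/-- Reduction modulo `e₁`. -/
noncomputable def modA : A n →ₐ[ZMod 2] A n := aeval fun i => if i.val = 0 then 0 else X i

theorem sub_modA_mem (f : A n) : f - modA n f ∈ Ideal.span {ea n} := by
  induction f using MvPolynomial.induction_on with
  | C r => rw [modA, aeval_C, algebraMap_eq, sub_self]; exact Ideal.zero_mem _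
  | add p q hp hq => rw [map_add, add_sub_add_comm]; exact Ideal.add_mem _ hp hq
  | mul_X p i hp =>
    rw [map_mul, show modA n (X i) = if i.val = 0 then 0 else X i from aeval_X _ _]
    split_ifs with h
    · rw [mul_zero, sub_zero, show (X i : A n) = ea n by rw [ea]; congr 1; exact Fin.ext h]
      exact Ideal.mul_mem_left _ _ (Ideal.subset_span rfl)
    · rw [← sub_mul]; exact Ideal.mul_mem_right _ _ hp

theorem modA_ea : modA n (ea n) = 0 := by rw [modA, ea, aeval_X]; simp [i0]

theorem modA_eq_zero_of_mem {f : A n} (h : f ∈ Ideal.span {ea n}) : modA n f = 0 := by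
  obtain ⟨c, rfl⟩ := Ideal.mem_span_singleton'.1 h
  rw [map_mul, modA_ea, mul_zero]

/-- Exponents of `P_i` modulo `e₁`. -/
def Nexp (i : Fin (QsChow.numVars n)) : ℕ :=
  if i.val = 1 then 2 ^ (QsChow.klog n 2 - 1) else K n i

theorem modA_Pc (i : Fin (QsChow.numVars n)) (hi : i.val ≠ 0) :
    modA n (Pc n hn i) = X i ^ Nexp n i := by
  have hb : modA n (eb n hn) = eb n hn := by rw [modA, eb, aeval_X, if_neg (by simp [i1])]
  rw [Pc, if_neg hi, Nexp]
  split_ifs with h1
  · obtain ⟨k, hk⟩ := Nat.exists_eq_add_of_le' (klog_pos n hn)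
    rw [S, show i.val + 1 = 2 by omega, map_sum, hk, sum_range_succ, sum_eq_zero, zero_add, Nat.add_sub_cancel,
      map_mul, map_pow, map_pow, modA_ea, hb, K, show i.val + 1 = 2 by omega, hk, Nat.sub_self, pow_zero, one_mul]
    · rw [eb, show i = i1 n hn from Fin.ext h1]
    · intro t ht
      have htk : 2 ^ (t + 1) < 2 ^ (k + 1) :=
        Nat.pow_lt_pow_right (by norm_num) (by have := mem_range.1 ht; omega)
      rw [map_mul, map_pow, modA_ea, zero_pow, zero_mul]
      rw [K, show i.val + 1 = 2 by omega, hk]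
      omega
  · rw [map_add, map_mul, map_pow, map_pow, modA_ea, zero_pow, zero_mul, add_zero, modA, aeval_X, if_neg hi]
    have : 1 ≤ K n i := Nat.one_le_two_pow
    have h2 : 2 ≤ 2 * (i.val + 1) - 4 := by omega
    exact (Nat.mul_pos (by omega) (by omega)).ne'

/-- The ideal of the `P_i`. -/
noncomputable def PI : Ideal (A n) := Ideal.span (Pc n hn '' {i | i.val ≠ 0})

theorem Pc_mem (i : Fin (QsChow.numVars n)) (hi : i.val ≠ 0) : Pc n hn i ∈ PI n hn :=
  Ideal.subset_span ⟨i, hi, rfl⟩

/-- A relation with values divisible by `e₁` has coefficients in `(e₁, P)`. -/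
theorem relation_mod (T : Finset (Fin (QsChow.numVars n))) (hT : ∀ i ∈ T, i.val ≠ 0) {l : Fin (QsChow.numVars n)}
    (hlT : l ∉ T) (hl : l.val ≠ 0) (v : Fin (QsChow.numVars n) → A n)
    (h : ∑ i ∈ insert l T, v i * Pc n hn i ∈ Ideal.span {ea n}) :
    ∃ c : Fin (QsChow.numVars n) → A n, v l - ∑ i ∈ T, c i * Pc n hn i ∈ Ideal.span {ea n} := by
  classical
  have h0 : ∑ i ∈ insert l T, modA n (v i) * X i ^ Nexp n i = 0 := by
    rw [← modA_eq_zero_of_mem n h, map_sum]
    refine sum_congr rfl fun i hi => ?_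
    rw [map_mul, modA_Pc n hn i]
    rcases mem_insert.1 hi with rfl | hi
    · exact hl
    · exact hT i hi
  have hm := mem_span_powers_of_relation (Nexp n) T hlT (fun i => modA n (v i)) h0
  obtain ⟨c, hc⟩ := (Submodule.mem_span_image_finset_iff_exists_fun' (A n)).1 hm
  refine ⟨c, ?_⟩
  rw [show v l - ∑ i ∈ T, c i * Pc n hn i =
      (v l - modA n (v l)) + ∑ i ∈ T, c i * (modA n (Pc n hn i) - Pc n hn i) by
    rw [sum_congr rfl fun i hi => show c i * (modA n (Pc n hn i) - Pc n hn i) =
        c i • ((X i : A n) ^ Nexp n i) - c i * Pc n hn i by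
      rw [modA_Pc n hn i (hT i hi), smul_eq_mul, mul_sub], sum_sub_distrib, hc]
    ring]
  refine Ideal.add_mem _ (sub_modA_mem n _) (Ideal.sum_mem _ fun i _ => Ideal.mul_mem_left _ _ ?_)
  rw [← neg_mem_iff, neg_sub]
  exact sub_modA_mem n _

/-- A relation with values divisible by `e₁` can be rewritten with divisible coefficients. -/
theorem relation_lift (T : Finset (Fin (QsChow.numVars n))) (hT : ∀ i ∈ T, i.val ≠ 0)
    (v : Fin (QsChow.numVars n) → A n) (h : ∑ i ∈ T, v i * Pc n hn i ∈ Ideal.span {ea n}) :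
    ∃ z ∈ PI n hn, ∑ i ∈ T, v i * Pc n hn i = ea n * z := by
  classical
  induction T using Finset.induction_on generalizing v with
  | empty => exact ⟨0, Ideal.zero_mem _, by simp⟩
  | @insert l T hl ih =>
    obtain ⟨c, hc⟩ := relation_mod n hn T (fun i hi => hT i (mem_insert_of_mem hi)) hl
      (hT l (mem_insert_self l T)) v h
    obtain ⟨w, hw⟩ := Ideal.mem_span_singleton'.1 hc
    have e : ∑ i ∈ insert l T, v i * Pc n hn i =
        w * ea n * Pc n hn l + ∑ i ∈ T, (v i + c i * Pc n hn l) * Pc n hn i := by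
      rw [sum_insert hl, hw, sub_mul, sum_mul,
        sum_congr rfl fun i _ => show (v i + c i * Pc n hn l) * Pc n hn i =
          v i * Pc n hn i + c i * Pc n hn i * Pc n hn l by ring, sum_add_distrib]
      ring
    rw [e] at h ⊢
    have h1 : w * ea n * Pc n hn l ∈ Ideal.span {ea n} :=
      Ideal.mul_mem_right (Pc n hn l) _ (Ideal.mul_mem_left _ w (Ideal.subset_span (Set.mem_singleton (ea n))))
    obtain ⟨z, hz, hze⟩ := ih (fun i hi => hT i (mem_insert_of_mem hi)) (fun i => v i + c i * Pc n hn l)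
      ((Submodule.add_mem_iff_right _ h1).1 h)
    exact ⟨w * Pc n hn l + z,
      Ideal.add_mem _ (Ideal.mul_mem_left _ _ (Pc_mem n hn l (hT l (mem_insert_self l T)))) hz, by rw [hze]; ring⟩

/-- `e₁` is a nonzerodivisor modulo the `P_i`. -/
theorem mem_PI_of_pow_mul (j : ℕ) {w : A n} (h : ea n ^ j * w ∈ PI n hn) : w ∈ PI n hn := by
  induction j generalizing w with
  | zero => simpa using h
  | succ j ih =>
    refine ih ?_
    rw [pow_succ', mul_assoc] at h
    classical
    rw [PI, show {i : Fin (QsChow.numVars n) | i.val ≠ 0} =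
      ((univ.filter fun i : Fin (QsChow.numVars n) => i.val ≠ 0 : Finset _) : Set _) by ext; simp,
      Ideal.span, Submodule.mem_span_image_finset_iff_exists_fun' (A n)] at h
    obtain ⟨c, hc⟩ := h
    simp only [smul_eq_mul] at hc
    obtain ⟨z, hz, hze⟩ := relation_lift n hn (univ.filter fun i => i.val ≠ 0) (fun i hi => (mem_filter.1 hi).2) c
      (by rw [hc]; exact Ideal.mul_mem_right _ _ (Ideal.subset_span rfl))
    rw [hc] at hze
    rw [mul_left_cancel₀ (X_ne_zero (i0 n)) hze]
    exact hz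

/-- From the `b`-coordinate: the coefficients lie in `(e₁, P)`. -/
theorem coeff_mem (v : Fin (QsChow.numVars n) → A n)
    (h : ∑ i ∈ univ.filter (fun i : Fin (QsChow.numVars n) => i.val ≠ 0), v i * Pc n hn i ∈ Ideal.span {ea n})
    (l : Fin (QsChow.numVars n)) (hl : l.val ≠ 0) : v l ∈ Ideal.span {ea n} ⊔ PI n hn := by
  classical
  rw [← insert_erase (show l ∈ univ.filter (fun i : Fin (QsChow.numVars n) => i.val ≠ 0) by simp [hl])] at h
  obtain ⟨c, hc⟩ := relation_mod n hn _ (fun i hi => (mem_filter.1 (mem_of_mem_erase hi)).2)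
    (notMem_erase _ _) hl v h
  rw [← sub_add_cancel (v l)]
  exact Ideal.add_mem _ (Ideal.mem_sup_left hc) (Ideal.mem_sup_right (Ideal.sum_mem _ fun i hi =>
    Ideal.mul_mem_left _ _ (Pc_mem n hn i (mem_filter.1 (mem_of_mem_erase hi)).2)))

end Groth.Agent.QsAlgLib
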