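import Groth.Agent.GeomField.Irreducible
import Groth.Agent.VarGeom.Normal
import Groth.Prelude.Def_Pi1
import Mathlib.FieldTheory.Galois.Basic

/-!
# A normal variety with reducible base change lives over a larger field
-/

set_option backward.isDefEq.respectTransparency false
set_option backward.isDefEq.respectTransparency.types false
set_option linter.style.haveILetI false

noncomputable section

universe u

open CategoryTheory AlgebraicGeometry TensorProduct Polynomial

namespace Groth.Agent.QsAlgLib

attribute [local instance] Curv2.resAlgebra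

section Field

variable {k : Type u} [Field k] {L E : Type u} [Field L] [Algebra k L] [Field E] [Algebra k E]

theorem irreducible_map_minpoly [Normal k L] (α : L) (hi : IsIntegral k α) {Ω : Type u} [Field Ω] [Algebra k Ω]
    [Algebra E Ω] [IsScalarTower k E Ω] [IsAlgClosed Ω] (ψ : L →ₐ[k] Ω)
    (h : ∀ (a : E) (b : L), algebraMap E Ω a = ψ b → a ∈ Set.range (algebraMap k E)) :
    Irreducible ((minpoly k α).map (algebraMap k E)) := by
  have hm := (minpoly.monic hi).map (algebraMap k E)
  refine (hm.irreducible_iff_natDegree).2 ⟨fun h1 => ?_, fun g₁ g₂ hg₁ hg₂ hg => ?_⟩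
  · have := congrArg natDegree h1
    rw [natDegree_map, natDegree_one] at this
    exact (minpoly.natDegree_pos hi).ne' this
  have key : ∀ g : E[X], g.Monic → g ∣ (minpoly k α).map (algebraMap k E) → g ∈ lifts (algebraMap k E) := by
    intro g hg hdvd
    let S := ψ.fieldRange
    have hroots : ∀ r ∈ (g.map (algebraMap E Ω)).roots, r ∈ S := by
      intro r hr
      have h1 := (Polynomial.map_dvd (algebraMap E Ω) hdvd)
      rw [Polynomial.map_map, ← IsScalarTower.algebraMap_eq] at h1
      have h0 := (Polynomial.isRoot_of_mem_roots hr).dvd h1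
      rw [← ψ.comp_algebraMap, ← Polynomial.map_map] at h0
      exact (Normal.splits inferInstance α).mem_range_of_isRoot (map_ne_zero (minpoly.ne_zero hi)) h0
    have hsplit : (g.map (algebraMap E Ω)).Splits := IsAlgClosed.splits _
    have hco : ∀ n, algebraMap E Ω (g.coeff n) ∈ S := by
      intro n
      rw [← coeff_map, hsplit.eq_prod_roots_of_monic (hg.map _)]
      have hl : ((g.map (algebraMap E Ω)).roots.map fun a => X - C a).prod ∈ lifts (S.val.toRingHom) := by
        refine multiset_prod_mem _ fun p hp => ?_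
        obtain ⟨a, ha, rfl⟩ := Multiset.mem_map.1 hp
        exact ⟨X - C (⟨a, hroots a ha⟩ : S), by simp⟩
      obtain ⟨q, hq⟩ := hl
      rw [← hq, coe_mapRingHom, coeff_map]
      exact (q.coeff n).2
    rw [lifts_iff_coeff_lifts]
    intro n
    obtain ⟨b, hb⟩ := hco n
    exact h _ b hb.symm
  obtain ⟨a, ha, hda, hma⟩ := lifts_and_degree_eq_and_monic (key g₁ hg₁ ⟨g₂, hg.symm⟩) hg₁
  obtain ⟨b, hb, hdb, hmb⟩ := lifts_and_degree_eq_and_monic (key g₂ hg₂ ⟨g₁, by rw [← hg, mul_comm]⟩) hg₂
  have hab : a * b = minpoly k α := Polynomial.map_injective _ (algebraMap k E).injective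
    (by rw [Polynomial.map_mul, ha, hb, hg])
  rcases ((minpoly.irreducible hi).isUnit_or_isUnit hab.symm) with hu | hu
  · left; rw [← natDegree_eq_of_degree_eq hda]; exact natDegree_eq_zero_of_isUnit hu
  · right; rw [← natDegree_eq_of_degree_eq hdb]; exact natDegree_eq_zero_of_isUnit hu

theorem isDomain_tensor [FiniteDimensional k L] [IsGalois k L] {Ω : Type u} [Field Ω] [Algebra k Ω]
    [Algebra E Ω] [IsScalarTower k E Ω] [IsAlgClosed Ω] (ψ : L →ₐ[k] Ω)
    (h : ∀ (a : E) (b : L), algebraMap E Ω a = ψ b → a ∈ Set.range (algebraMap k E)) : IsDomain (E ⊗[k] L) := by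
  obtain ⟨α, hα⟩ := Field.exists_primitive_element k L
  let Φ : E ⊗[k] L →ₐ[E] Ω :=
    Algebra.TensorProduct.lift (Algebra.ofId E Ω) ψ fun _ _ => Commute.all _ _
  have hi : IsIntegral k α := Algebra.IsIntegral.isIntegral α
  have hirr := irreducible_map_minpoly α hi ψ h
  have hmin : minpoly E (ψ α) = (minpoly k α).map (algebraMap k E) :=
    (minpoly.eq_of_irreducible_of_monic hirr
      (by rw [aeval_map_algebraMap, aeval_algHom_apply, minpoly.aeval, map_zero])
      ((minpoly.monic hi).map _)).symm
  have hd : Module.finrank E (IntermediateField.adjoin E {ψ α}) = Module.finrank k L := by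
    rw [IntermediateField.adjoin.finrank (hi.map ψ).tower_top, hmin, natDegree_map]
    exact ((Field.primitive_element_iff_minpoly_natDegree_eq k α).1 hα)
  have hinj : Function.Injective Φ.toLinearMap := by
    have hle : (IntermediateField.adjoin E {ψ α}).toSubalgebra ≤ Φ.range := by
      rw [IntermediateField.adjoin_simple_toSubalgebra_of_isAlgebraic (hi.map ψ).tower_top.isAlgebraic]
      exact Algebra.adjoin_le (Set.singleton_subset_iff.2 ⟨1 ⊗ₜ[k] α, by simp [Φ]⟩)
    rw [← LinearMap.ker_eq_bot, ← Submodule.finrank_eq_zero]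
    have h1 := Φ.toLinearMap.finrank_range_add_finrank_ker
    have h2 : Module.finrank E (IntermediateField.adjoin E {ψ α}) ≤ Module.finrank E Φ.toLinearMap.range :=
      Submodule.finrank_mono (s := (IntermediateField.adjoin E {ψ α}).toSubalgebra.toSubmodule)
        (t := Φ.toLinearMap.range) hle
    rw [Module.finrank_baseChange] at h1
    omega
  exact Function.Injective.isDomain Φ hinj

/-- If the tensor product with a Galois extension is not irreducible, the field contains part of the extension. -/
theorem exists_algHom [FiniteDimensional k L] [IsGalois k L]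
    (h : ¬ IrreducibleSpace (PrimeSpectrum (E ⊗[k] L))) :
    ∃ F : IntermediateField k L, F ≠ ⊥ ∧ Nonempty (F →ₐ[k] E) := by
  let Ω := AlgebraicClosure E
  let ψ : L →ₐ[k] Ω := IsAlgClosed.lift
  by_contra hF
  refine h ?_
  have := isDomain_tensor (E := E) ψ fun a b hab => ?_
  · infer_instance
  by_contra ha
  refine hF ⟨IntermediateField.adjoin k {b}, fun hb => ha ?_, ?_⟩
  · rw [IntermediateField.adjoin_simple_eq_bot_iff] at hb
    obtain ⟨c, hc⟩ := IntermediateField.mem_bot.1 hb
    refine ⟨c, (algebraMap E Ω).injective ?_⟩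
    rw [hab, ← IsScalarTower.algebraMap_apply, ← hc, AlgHom.commutes]
  · have hi : IsIntegral k b := Algebra.IsIntegral.isIntegral b
    refine ⟨(IntermediateField.algHomAdjoinIntegralEquiv k hi).symm ⟨a, ?_⟩⟩
    refine mem_aroots.2 ⟨minpoly.ne_zero hi, (algebraMap E Ω).injective ?_⟩
    rw [← aeval_algebraMap_apply, hab, aeval_algHom_apply, minpoly.aeval, map_zero, map_zero]

end Field

section Scheme

variable {k : Type u} [Field k] {X : Scheme.{u}} [X.Over (Spec (CommRingCat.of k))]

theorem isIntegral_of_normal [IrreducibleSpace X] (hX : Pi1.IsNormalScheme X) : IsIntegral X := by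
  haveI : ∀ x : X, _root_.IsReduced (X.presheaf.stalk x) := fun x => by
    haveI := (hX x).1; infer_instance
  haveI : IsReduced X := isReduced_of_isReduced_stalk X
  exact isIntegral_of_irreducibleSpace_of_isReduced X

/-- A finite extension inside the function field of a normal variety acts on it. -/
theorem exists_hom_of_algHom [IrreducibleSpace X] (hX : Pi1.IsNormalScheme X) (F : Type u) [Field F] [Algebra k F]
    [Algebra.IsIntegral k F] (f : F →ₐ[k] X.residueField (genericPoint X)) :
    ∃ g : X ⟶ Spec (CommRingCat.of F),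
      g ≫ Spec.map (CommRingCat.ofHom (algebraMap k F)) = X ↘ Spec (CommRingCat.of k) := by
  haveI := isIntegral_of_normal hX
  haveI : Nonempty (⊤ : X.Opens) := ⟨⟨genericPoint X, trivial⟩⟩
  let η := genericPoint X
  let φ : k →+* Γ(X, ⊤) := ((Scheme.ΓSpecIso (CommRingCat.of k)).inv ≫ (X ↘ Spec (CommRingCat.of k)).appTop).hom
  let r : X.presheaf.stalk η →+* X.residueField η := (X.residue η).hom
  have hr : Function.Bijective r := ⟨fun a b hab => by
      by_contra hne
      have hu : IsUnit (a - b) := IsUnit.mk0 (G₀ := X.functionField) _ (sub_ne_zero.2 hne)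
      have := (hu.map r).ne_zero
      rw [map_sub, hab, sub_self] at this
      exact this rfl, X.residue_surjective η⟩
  let e := RingEquiv.ofBijective r hr
  let fF : F →+* X.functionField := e.symm.toRingHom.comp f.toRingHom
  have hφ : (X.germToFunctionField ⊤).hom.comp φ = fF.comp (algebraMap k F) := RingHom.ext fun c => by
    apply hr.1
    show _ = e (e.symm (f (algebraMap k F c)))
    rw [e.apply_symm_apply, f.commutes]
    rfl
  have hex : ∀ c : F, ∃ s : Γ(X, ⊤), X.germToFunctionField ⊤ s = fF c := fun c => by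
    refine VarGeom.exists_global_of_isIntegral (fun x => (hX x).2) (fF c) ?_
    obtain ⟨p, hp, hp0⟩ := Algebra.IsIntegral.isIntegral (R := k) c
    refine ⟨p.map φ, hp.map φ, ?_⟩
    rw [Polynomial.eval₂_map, hφ, ← Polynomial.hom_eval₂, hp0, map_zero]
  choose s hs using hex
  have hinj := X.germToFunctionField_injective ⊤
  let σ : F →+* Γ(X, ⊤) :=
    { toFun := s
      map_one' := hinj (by rw [hs, map_one, map_one])
      map_mul' := fun a b => hinj (by rw [hs, map_mul, map_mul, hs, hs])
      map_zero' := hinj (by rw [hs, map_zero, map_zero])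
      map_add' := fun a b => hinj (by rw [hs, map_add, map_add, hs, hs]) }
  refine ⟨X.toSpecΓ ≫ Spec.map (CommRingCat.ofHom σ), ?_⟩
  have hσ : CommRingCat.ofHom (algebraMap k F) ≫ CommRingCat.ofHom σ =
      (Scheme.ΓSpecIso (CommRingCat.of k)).inv ≫ (X ↘ Spec (CommRingCat.of k)).appTop := by
    refine CommRingCat.hom_ext (RingHom.ext fun c => hinj ?_)
    exact (hs _).trans congr($hφ c).symm
  rw [Category.assoc, ← Spec.map_comp, hσ, Spec.map_comp, ← Scheme.toSpecΓ_naturality_assoc,
    ← SpecMap_ΓSpecIso_hom, ← Spec.map_comp, Iso.inv_hom_id, Spec.map_id, Category.comp_id]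

theorem exists_factor [IrreducibleSpace X] (hX : Pi1.IsNormalScheme X) (L : Type u) [Field L] [Algebra k L]
    [FiniteDimensional k L] [IsGalois k L] (hred : ¬ IrreducibleSpace ↥(Curv2.bc k X L)) :
    ∃ F : IntermediateField k L, F ≠ ⊥ ∧
      ∃ g : X ⟶ Spec (CommRingCat.of F),
        g ≫ Spec.map (CommRingCat.ofHom (algebraMap k F)) = X ↘ Spec (CommRingCat.of k) := by
  obtain ⟨F, hF, ⟨f⟩⟩ := exists_algHom (k := k) (E := X.residueField (genericPoint X)) (L := L)
    fun h => hred (GeomField.irreducibleSpace_bc_of_fibre L h)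
  exact ⟨F, hF, exists_hom_of_algHom hX F f⟩

end Scheme

end Groth.Agent.QsAlgLib
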