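import Groth.Agent.QsAlgLib.Kernel
import Groth.Prelude.Def_W4c4chowquasisplitPn2

/-!
# Multiples of powers of `ε₁` by invariant elements
-/

open MvPolynomial Finset

namespace Groth.Agent.QsAlgLib

variable (n : ℕ) (hn : 2 ≤ n)

theorem phi_inc_ea : QsChow.phi n (inc n (ea n)) = QsChow.eps n 1 := by
  rw [inc, ea, rename_X, QsChow.phi, aeval_X]; simp [QsChow.genImage, i0]

theorem phi_evar_one : QsChow.phi n (QsChow.evar n 1) = QsChow.eps n 1 := by rw [evar_one]; exact phi_inc_ea n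

include hn in
theorem phi_presIdeal {f : QsChow.FreeE n} (h : f ∈ QsChow.presIdeal n) : QsChow.phi n f = 0 := presIdeal_le n hn h

include hn in
theorem exists_coords (y : QsChow.P n) :
    ∃ g h : A n, y = QsChow.phi n (inc n g) + QsChow.phi n (inc n h) * QsChow.eps n 2 := by
  obtain ⟨F, rfl⟩ := Ideal.Quotient.mk_surjective y
  obtain ⟨g, h, e⟩ := coord_exists n hn (psi n hn F)
  refine ⟨g, h, ?_⟩
  rw [phi_eq n hn, phi_eq n hn, eps_two n hn, ← map_mul, ← map_add,
    show F = phiLift n hn (inc n g) + phiLift n hn (inc n h) * X (i1 n hn) from psi_injective n hn (by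
      rw [e, map_add, map_mul, psi_phiLift_inc, psi_phiLift_inc, psi_X1])]

variable (τ : QsChow.P n →ₐ[ZMod 2] QsChow.P n) (hτ1 : τ (QsChow.eps n 1) = QsChow.eps n 1)
    (hτ : ∀ j : ℕ, 2 ≤ j → j ≤ QsChow.numVars n →
      τ (QsChow.eps n j) = QsChow.eps n j + QsChow.eps n 1 ^ (2 * j - 3))

include hn hτ1 hτ in
theorem fixed_iff {z : QsChow.P n} : τ z = z ↔ ∃ f, QsChow.phi n f = z := by
  constructor
  · intro h
    have : z ∈ AlgHom.equalizer τ (AlgHom.id (ZMod 2) (QsChow.P n)) := h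
    rw [← range_phi n hn τ hτ1 hτ] at this
    exact this
  · intro h
    have : z ∈ (QsChow.phi n).range := h
    rw [range_phi n hn τ hτ1 hτ] at this
    exact this

include hn hτ1 hτ in
theorem add_tau (g h : A n) :
    QsChow.phi n (inc n g) + QsChow.phi n (inc n h) * QsChow.eps n 2 +
        τ (QsChow.phi n (inc n g) + QsChow.phi n (inc n h) * QsChow.eps n 2) =
      QsChow.phi n (inc n (h * ea n)) := by
  have h2 : τ (QsChow.eps n 2) = QsChow.eps n 2 + QsChow.eps n 1 := by
    simpa using hτ 2 le_rfl (two_le_numVars n hn)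
  have hf : ∀ f, τ (QsChow.phi n f) = QsChow.phi n f := fun f => (fixed_iff n hn τ hτ1 hτ).2 ⟨f, rfl⟩
  rw [map_add τ, map_mul τ, hf, hf, h2, map_mul (inc n), map_mul (QsChow.phi n), phi_inc_ea]
  linear_combination two_eq_zero (QsChow.phi n (inc n g)) + two_eq_zero (QsChow.phi n (inc n h) * QsChow.eps n 2)

include hn hτ1 hτ in
theorem range_add_tau : Set.range (fun y : QsChow.P n => y + τ y) =
    (fun z : QsChow.P n => QsChow.eps n 1 * z) '' (AlgHom.equalizer τ (AlgHom.id (ZMod 2) (QsChow.P n)) : Set (QsChow.P n)) := by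
  ext z
  constructor
  · rintro ⟨y, rfl⟩
    obtain ⟨g, h, rfl⟩ := exists_coords n hn y
    refine ⟨QsChow.phi n (inc n h), (fixed_iff n hn τ hτ1 hτ).2 ⟨_, rfl⟩, ?_⟩
    dsimp only
    rw [add_tau n hn τ hτ1 hτ, map_mul, map_mul, phi_inc_ea, mul_comm]
  · rintro ⟨w, hw, rfl⟩
    obtain ⟨f, rfl⟩ := (fixed_iff n hn τ hτ1 hτ).1 hw
    obtain ⟨g, h, e⟩ := exists_repr n f
    have e' := phi_presIdeal n hn e
    rw [map_sub, sub_eq_zero, map_add, map_mul] at e'
    refine ⟨QsChow.phi n (inc n 0) + QsChow.phi n (inc n g) * QsChow.eps n 2, ?_⟩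
    dsimp only
    have hz := phi_presIdeal n hn (x_ea_mem n)
    rw [map_mul, phi_inc_ea] at hz
    rw [add_tau n hn τ hτ1 hτ, map_mul, map_mul, phi_inc_ea, e']
    linear_combination -(QsChow.phi n (inc n h)) * hz

include hn hτ1 hτ in
theorem add_tau_multiple (m : ℕ) (hm1 : 1 ≤ m) (y : QsChow.P n)
    (hy : y + τ y ∈ Ideal.span ({QsChow.eps n 1 ^ m} : Set (QsChow.P n))) :
    ∃ z : QsChow.P n, τ z = z ∧ y + τ y = QsChow.eps n 1 ^ m * z := by
  obtain ⟨g, v', rfl⟩ := exists_coords n hn y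
  rw [add_tau n hn τ hτ1 hτ] at hy ⊢
  obtain ⟨z, hz⟩ := Ideal.mem_span_singleton'.1 hy
  obtain ⟨c, d, rfl⟩ := exists_coords n hn z
  refine ⟨QsChow.phi n (inc n c), (fixed_iff n hn τ hτ1 hτ).2 ⟨_, rfl⟩, ?_⟩
  have h0 : phiLift n hn (inc n (v' * ea n - ea n ^ m * c)) - phiLift n hn (inc n (ea n ^ m * d)) * X (i1 n hn) ∈
      QsChow.truncIdeal n := by
    rw [← Ideal.Quotient.eq_zero_iff_mem, map_sub, map_mul, ← phi_eq, ← phi_eq, ← eps_two]
    simp only [map_sub, map_mul, map_pow, phi_inc_ea] at hz ⊢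
    linear_combination -hz
  obtain ⟨u, v, hg, hh⟩ := psi_mem n hn h0 (g := v' * ea n - ea n ^ m * c) (h := -(ea n ^ m * d)) (by
    rw [map_sub, map_mul, psi_phiLift_inc, psi_phiLift_inc, psi_X1, map_neg]; ring)
  rw [(sum_split n hn u v).1] at hg
  rw [(sum_split n hn u v).2] at hh
  set T := univ.filter (fun i : Fin (QsChow.numVars n) => i.val ≠ 0) with hT
  obtain ⟨m', rfl⟩ := Nat.exists_eq_add_of_le' hm1
  have hv : ∀ i ∈ T, v i ∈ Ideal.span {ea n} ⊔ PI n hn := fun i hi =>
    coeff_mem_of_eq n hn u v (-(ea n ^ m' * d)) (by rw [← hh, pow_succ]; ring) i (mem_filter.1 hi).2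
  have hu : ∀ i ∈ T, u i ∈ Ideal.span {ea n} ⊔ PI n hn := fun i hi => by
    refine coeff_mem n hn u ?_ i (mem_filter.1 hi).2
    have ha : ea n ∈ Ideal.span {ea n} := Ideal.mem_span_singleton_self _
    rw [sum_add_distrib] at hg
    rw [show ∑ i ∈ T, u i * Pc n hn i = v' * ea n - ea n ^ (m' + 1) * c - u (i0 n) * ea n ^ n -
      ∑ i ∈ T, v i * ea n ^ mexp n i * eb n hn by rw [hg]; ring]
    refine sub_mem (sub_mem (sub_mem (Ideal.mul_mem_left _ _ ha) (Ideal.mul_mem_right _ _
      (Ideal.pow_mem_of_mem _ ha _ (by omega)))) (Ideal.mul_mem_left _ _ (Ideal.pow_mem_of_mem _ ha n (by omega))))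
      (Ideal.sum_mem _ fun j hj => Ideal.mul_mem_right _ _ (Ideal.mul_mem_left _ _ (Ideal.pow_mem_of_mem _ ha _ ?_)))
    have := mexp_eq n hn j (mem_filter.1 hj).2
    omega
  have hU : inc n (v' * ea n - ea n ^ (m' + 1) * c) ∈ QsChow.presIdeal n := by
    rw [hg, map_add, map_mul, map_sum]
    refine Ideal.add_mem _ (Ideal.mul_mem_left _ _ (pow_mem n)) (Ideal.sum_mem _ fun i hi => ?_)
    rw [map_add, map_mul (inc n) (v i * ea n ^ mexp n i)]
    refine Ideal.add_mem _ ?_ (Ideal.mul_mem_right _ _ (inc_pow_mul_mem n hn (hv i hi) i (mem_filter.1 hi).2))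
    obtain ⟨_, ha, p, hp, hpe⟩ := Submodule.mem_sup.1 (hu i hi)
    obtain ⟨r, rfl⟩ := Ideal.mem_span_singleton'.1 ha
    rw [← hpe, map_mul, map_add, map_mul]
    have h1 := rel_mem n hn i (mem_filter.1 hi).2
    rw [show (inc n r * inc n (ea n) + inc n p) * inc n (Pc n hn i) =
        (inc n r * inc n (ea n) + inc n p) * (inc n (Pc n hn i) + QsChow.xvar n * inc n (ea n ^ eexp n i)) -
        inc n (ea n ^ eexp n i) * (inc n r * (QsChow.xvar n * inc n (ea n)) + QsChow.xvar n * inc n p) by ring]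
    exact sub_mem (Ideal.mul_mem_left _ _ h1) (Ideal.mul_mem_left _ _ (Ideal.add_mem _
      (Ideal.mul_mem_left _ _ (x_ea_mem n)) (pow_mul_PI_mem n hn hp)))
  have := phi_presIdeal n hn hU
  simp only [map_sub, map_mul, map_pow, phi_inc_ea] at this ⊢
  linear_combination this

include hn hτ1 hτ in
theorem mul_fixed_iff (N : ℕ) (q : QsChow.FreeE n) :
    (∃ w : QsChow.P n, τ w = w ∧ QsChow.phi n q = QsChow.eps n 1 ^ N * w) ↔
      q ∈ QsChow.presIdeal n ⊔ Ideal.span {inc n (ea n) ^ N} := by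
  constructor
  · rintro ⟨w, hw, he⟩
    obtain ⟨f, rfl⟩ := (fixed_iff n hn τ hτ1 hτ).1 hw
    rw [← sub_add_cancel q (inc n (ea n) ^ N * f)]
    refine Submodule.add_mem_sup ?_ (Ideal.mul_mem_right _ _ (Ideal.mem_span_singleton_self _))
    rw [← ker_phi n hn, RingHom.mem_ker, map_sub, map_mul, map_pow, phi_inc_ea, he, sub_self]
  · intro h
    obtain ⟨p, hp, _, hc, rfl⟩ := Submodule.mem_sup.1 h
    obtain ⟨c, rfl⟩ := Ideal.mem_span_singleton'.1 hc
    exact ⟨QsChow.phi n c, (fixed_iff n hn τ hτ1 hτ).2 ⟨c, rfl⟩, by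
      rw [map_add, phi_presIdeal n hn hp, zero_add, map_mul, map_pow, phi_inc_ea, mul_comm]⟩

/-- Substituting `L` for `x`. -/
noncomputable def elim (L : A n) : QsChow.FreeE n →ₐ[ZMod 2] A n := aeval fun o => o.elim L X

theorem elim_inc (L g : A n) : elim n L (inc n g) = g := by
  rw [inc, elim, aeval_rename]; exact aeval_X_left_apply g

theorem elim_x (L : A n) : elim n L (QsChow.xvar n) = L := aeval_X _ _

theorem elim_evar_one (L : A n) : elim n L (QsChow.evar n 1) = ea n := by rw [evar_one, elim_inc]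

theorem evarE_succ (i : Fin (QsChow.numVars n)) : QsChow.evarE n (i.val + 1) = (X i : A n) := by
  rw [QsChow.evarE, dif_pos ⟨Nat.succ_pos _, i.isLt⟩]
  congr

theorem psiE_eq (q : A n) : QsChow.psi n q = QsChow.phi n (inc n q) := by
  rw [QsChow.psi, QsChow.phi, inc, aeval_rename]; rfl

include hn in
theorem log_facts :
    n ≤ 2 ^ QsChow.klog n 2 ∧ 2 ^ (QsChow.klog n 2 - 1) < n := by
  constructor
  · have := le_exp n hn (i1 n hn) (by simp [i1])
    simpa [K, i1] using this
  · obtain ⟨k, hk⟩ := Nat.exists_eq_add_of_le' (klog_pos n hn)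
    have : 2 ^ QsChow.klog n 2 ≤ (2 * n - 1) / (2 * 2 - 3) := Nat.pow_log_le_self 2 (by omega)
    rw [hk, Nat.add_sub_cancel]
    rw [hk, pow_succ] at this
    omega

include hn in
theorem kprime_two (h : n ≠ 2 ^ QsChow.klog n 2) : QsChow.kprime n 2 = QsChow.klog n 2 - 1 := by
  obtain ⟨h1, h2⟩ := log_facts n hn
  rw [QsChow.kprime, if_neg (by omega), if_pos rfl]
  refine Nat.log_eq_of_pow_le_of_lt_pow h2.le ?_
  rw [Nat.sub_add_cancel (klog_pos n hn)]
  omega

include hn in
theorem kprime_of_ne (j : ℕ) (hj : 3 ≤ j) (hj' : j ≤ QsChow.numVars n)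
    (h : ∀ t, n ≠ (2 * j - 3) * 2 ^ t) : QsChow.kprime n j = QsChow.klog n j := by
  rw [QsChow.kprime, if_neg (by omega), if_neg (by omega), QsChow.klog]
  set m := 2 * j - 3 with hm
  have hm0 : 0 < m := by omega
  have hmn : m ≤ 2 * n - 1 := by unfold QsChow.numVars at hj'; omega
  have h0 : (2 * n - 1) / m ≠ 0 := (Nat.div_pos hmn hm0).ne'
  have hlo := Nat.pow_log_le_self 2 h0
  have hhi := Nat.lt_pow_succ_log_self (b := 2) (by norm_num) ((2 * n - 1) / m)
  set k := Nat.log 2 ((2 * n - 1) / m)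
  rw [Nat.succ_eq_add_one] at hhi
  refine Nat.log_eq_of_pow_le_of_lt_pow (hlo.trans (Nat.div_le_div_right (by omega))) ?_
  rw [Nat.div_lt_iff_lt_mul hm0]
  rw [Nat.div_lt_iff_lt_mul hm0] at hhi
  have : 2 * n ≠ 2 ^ (k + 1) * m := fun e => h k (by rw [pow_succ] at e; linarith)
  omega

theorem odd_mul_two_pow_inj {a b s t : ℕ} (ha : Odd a) (hb : Odd b) (h : a * 2 ^ s = b * 2 ^ t) : s = t ∧ a = b := by
  have hst : s = t := by
    by_contra hne
    rcases Nat.lt_or_gt_of_ne hne with hlt | hlt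
    · obtain ⟨r, rfl⟩ := Nat.exists_eq_add_of_lt hlt
      rw [show 2 ^ (s + r + 1) = 2 ^ s * (2 ^ r * 2) by ring, ← mul_assoc, mul_comm b, mul_assoc] at h
      rw [mul_comm a] at h
      have := Nat.eq_of_mul_eq_mul_left (Nat.two_pow_pos s) h
      exact Nat.not_even_iff_odd.2 ha ⟨b * 2 ^ r, by rw [this]; ring⟩
    · obtain ⟨r, rfl⟩ := Nat.exists_eq_add_of_lt hlt
      rw [show 2 ^ (t + r + 1) = 2 ^ t * (2 ^ r * 2) by ring, ← mul_assoc, mul_comm a, mul_assoc] at h
      rw [mul_comm b] at h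
      have := Nat.eq_of_mul_eq_mul_left (Nat.two_pow_pos t) h
      exact Nat.not_even_iff_odd.2 hb ⟨a * 2 ^ r, by rw [← this]; ring⟩
  exact ⟨hst, Nat.eq_of_mul_eq_mul_right (Nat.two_pow_pos t) (hst ▸ h)⟩

include hn in
theorem eexp_pos (i : Fin (QsChow.numVars n)) (hi : i.val ≠ 0) (h : ∀ t, n ≠ (2 * (i.val + 1) - 3) * 2 ^ t) :
    0 < eexp n i := by
  have h1 := le_exp n hn i hi
  have h2 := h (QsChow.klog n (i.val + 1))
  rw [eexp]
  change _ ≠ _ * K n i at h2
  omega

theorem sub_modA_pow (N : ℕ) (hN : 1 ≤ N) (f : A n) (h : f ∈ Ideal.span {ea n ^ N}) : f ∈ Ideal.span {ea n} := by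
  obtain ⟨c, rfl⟩ := Ideal.mem_span_singleton'.1 h
  exact Ideal.mul_mem_left _ _ (Ideal.pow_mem_of_mem _ (Ideal.mem_span_singleton_self _) N (by omega))

include hn in
theorem odd_ideal (hodd : Odd n) :
    QsChow.presIdeal n ⊔ Ideal.span {inc n (ea n) ^ 1} = QsChow.oddIdeal n := by
  rw [pow_one, ← evar_one]
  have hs : ∀ j, 2 ≤ j → j ≤ QsChow.numVars n → ∀ t, n ≠ (2 * j - 3) * 2 ^ t := by
    intro j hj hj' t e
    obtain ⟨h1, h2⟩ := odd_mul_two_pow_inj (a := n) (b := 2 * j - 3) (s := 0) (t := t) hodd ⟨j - 2, by omega⟩ (by rw [pow_zero, mul_one]; exact e)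
    unfold QsChow.numVars at hj'
    omega
  have h2 : n ≠ 2 ^ QsChow.klog n 2 := fun e => hs 2 le_rfl (two_le_numVars n hn) (QsChow.klog n 2) (by simpa using e)
  have hN : ∀ i : Fin (QsChow.numVars n), i.val ≠ 0 → 2 ^ QsChow.kprime n (i.val + 1) = Nexp n i := by
    intro i hi
    rw [Nexp]
    split_ifs with h1
    · rw [h1, kprime_two n hn h2]
    · rw [kprime_of_ne n hn _ (by omega) i.isLt (hs _ (by omega) i.isLt)]; rfl
  have ha : QsChow.evar n 1 ∈ QsChow.oddIdeal n := Ideal.subset_span (Or.inl (Or.inl rfl))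
  have hPc : ∀ i : Fin (QsChow.numVars n), i.val ≠ 0 →
      ∃ c, inc n (Pc n hn i) = QsChow.evar n (i.val + 1) ^ Nexp n i + c * QsChow.evar n 1 := by
    intro i hi
    obtain ⟨c, hc⟩ := Ideal.mem_span_singleton'.1 (sub_modA_mem n (Pc n hn i))
    rw [modA_Pc n hn i hi] at hc
    refine ⟨inc n c, ?_⟩
    rw [evar_succ, evar_one, ← map_pow, ← map_mul, ← map_add, hc]
    congr 1; ring
  have he : ∀ i : Fin (QsChow.numVars n), i.val ≠ 0 → ∀ I : Ideal (QsChow.FreeE n), QsChow.evar n 1 ∈ I →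
      QsChow.xvar n * inc n (ea n ^ eexp n i) ∈ I := by
    intro i hi I hI
    rw [map_pow, ← evar_one]
    exact Ideal.mul_mem_left _ _ (Ideal.pow_mem_of_mem _ hI _ (eexp_pos n hn i hi (hs _ (by omega) i.isLt)))
  refine le_antisymm (sup_le (Ideal.span_le.2 ?_) (Ideal.span_le.2 (Set.singleton_subset_iff.2 ha))) (Ideal.span_le.2 ?_)
  · rintro z ((rfl | rfl | rfl) | ⟨i, rfl⟩)
    · exact Ideal.pow_mem_of_mem _ ha _ (by omega)
    · exact Ideal.mul_mem_right _ _ ha
    · exact Ideal.subset_span (Or.inl (Or.inr rfl))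
    · by_cases hi : i.val = 0
      · unfold QsChow.hrel; dsimp only; rw [if_neg (by omega), if_neg (by omega)]; exact Ideal.zero_mem _
      · change QsChow.hrel n (i.val + 1) ∈ QsChow.oddIdeal n
        rw [hrel_eq n hn i hi]
        obtain ⟨c, hc⟩ := hPc i hi
        rw [hc, ← hN i hi]
        exact Ideal.add_mem _ (Ideal.add_mem _ (Ideal.subset_span (Or.inr ⟨i, rfl⟩)) (Ideal.mul_mem_left _ _ ha))
          (he i hi _ ha)
  · have hb : QsChow.evar n 1 ∈ QsChow.presIdeal n ⊔ Ideal.span {QsChow.evar n 1} :=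
      Ideal.mem_sup_right (Ideal.mem_span_singleton_self _)
    rintro z ((rfl | rfl) | ⟨i, rfl⟩)
    · exact hb
    · exact Ideal.mem_sup_left (x_sq_mem n)
    · change QsChow.evar n (i.val + 1) ^ 2 ^ QsChow.kprime n (i.val + 1) ∈ _
      by_cases hi : i.val = 0
      · rw [show i.val + 1 = 1 by omega]
        exact Ideal.pow_mem_of_mem _ hb _ (Nat.two_pow_pos _)
      · obtain ⟨c, hc⟩ := hPc i hi
        rw [hN i hi, show QsChow.evar n (i.val + 1) ^ Nexp n i = (inc n (Pc n hn i) + QsChow.xvar n * inc n (ea n ^ eexp n i)) -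
          QsChow.xvar n * inc n (ea n ^ eexp n i) - c * QsChow.evar n 1 by rw [hc]; ring]
        exact sub_mem (sub_mem (Ideal.mem_sup_left (rel_mem n hn i hi)) (he i hi _ hb)) (Ideal.mul_mem_left _ _ hb)

include hn hτ1 hτ in
theorem even_presentation (ha : 1 ≤ QsChow.twoExp n) (hne : n ≠ 2 ^ QsChow.twoExp n) :
    (∀ q : QsChow.FreeP n,
      (∃ w : QsChow.P n, τ w = w ∧ QsChow.psi n q = QsChow.eps n 1 ^ 2 ^ QsChow.twoExp n * w) ↔
        q ∈ QsChow.evenIdeal n) ∧
    (∀ z : QsChow.P n, τ z = z → ∃ q : QsChow.FreeP n, ∃ w : QsChow.P n,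
      τ w = w ∧ z = QsChow.psi n q + QsChow.eps n 1 ^ 2 ^ QsChow.twoExp n * w) := by
  set a := QsChow.twoExp n with ha'
  -- `n = m * 2 ^ a` with `m` odd
  obtain ⟨m, hm⟩ : 2 ^ a ∣ n := pow_padicValNat_dvd
  have hmodd : Odd m := by
    rw [← Nat.not_even_iff_odd]
    rintro ⟨r, rfl⟩
    have : 2 ^ (a + 1) ∣ n := ⟨r, by rw [hm]; ring⟩
    exact pow_succ_padicValNat_not_dvd (p := 2) (by omega) this
  obtain ⟨r, rfl⟩ := hmodd
  have hr : r ≠ 0 := by rintro rfl; simp at hm; omega
  have h2a : 2 ≤ 2 ^ a := le_trans (by norm_num) (Nat.pow_le_pow_right (by norm_num : 0 < 2) ha)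
  have hrs : r + 2 ≤ QsChow.numVars n := by
    unfold QsChow.numVars
    have : 2 * (2 * r + 1) ≤ n := by rw [hm]; exact Nat.mul_le_mul_right _ h2a
    omega
  let l : Fin (QsChow.numVars n) := ⟨r + 1, by omega⟩
  have hl : l.val = r + 1 := rfl
  have hlIdx : QsChow.lIdx n = r + 2 := by
    rw [QsChow.lIdx, ← ha', show n / 2 ^ a = 2 * r + 1 by rw [hm]; exact Nat.mul_div_cancel_left _ (by omega)]
    omega
  have hnot : ∀ i : Fin (QsChow.numVars n), i.val ≠ 0 → i ≠ l → ∀ t, n ≠ (2 * (i.val + 1) - 3) * 2 ^ t := by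
    intro i hi hil t e
    have := (odd_mul_two_pow_inj (a := 2 * r + 1) (b := 2 * (i.val + 1) - 3) (s := a) (t := t) ⟨r, by ring⟩ ⟨i.val - 1, by omega⟩
      (by rw [mul_comm, ← hm]; exact e)).2
    exact hil (Fin.ext (by omega))
  have hpos : 0 < 2 * n / (2 * (r + 2) - 3) ∧ 2 * n / (2 * (r + 2) - 3) = 2 ^ (a + 1) ∧
      (2 * n - 1) / (2 * (r + 2) - 3) = 2 ^ (a + 1) - 1 := by
    have e : 2 * (r + 2) - 3 = 2 * r + 1 := by omega
    have e2 : 2 * n = 2 ^ (a + 1) * (2 * r + 1) := by rw [hm]; ring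
    rw [e, e2, Nat.mul_div_cancel _ (by omega)]
    refine ⟨Nat.two_pow_pos _, rfl, ?_⟩
    have h1 : 1 ≤ 2 ^ (a + 1) := Nat.one_le_two_pow
    obtain ⟨p, hp⟩ := Nat.exists_eq_add_of_le' h1
    rw [hp, Nat.add_sub_cancel, add_mul, one_mul]
    exact Nat.div_eq_of_lt_le (by omega) (by rw [add_mul, one_mul]; omega)
  have hkl : QsChow.klog n (r + 2) = a := by
    rw [QsChow.klog, hpos.2.2]
    exact Nat.log_eq_of_pow_le_of_lt_pow (by rw [pow_succ]; omega) (by have := Nat.two_pow_pos (a + 1); omega)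
  have hkpl : QsChow.kprime n (r + 2) = a + 1 := by
    rw [QsChow.kprime, if_neg (by omega), if_neg (by omega), hpos.2.1, Nat.log_pow (by norm_num)]
  have hkp1 : QsChow.kprime n 1 = a := by rw [QsChow.kprime, if_pos rfl]
  have hl0 : l.val ≠ 0 := by omega
  have hel : eexp n l = 0 := by
    rw [eexp, K, hl, show r + 1 + 1 = r + 2 by ring, hkl, show 2 * (r + 2) - 3 = 2 * r + 1 by omega]
    exact Nat.sub_eq_zero_of_le (by rw [hm, mul_comm])
  have h3n : 3 * 2 ^ a ≤ n := by rw [hm, mul_comm 3]; exact Nat.mul_le_mul_left _ (by omega)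
  -- congruences modulo `e₁ ^ 2 ^ a`
  have hPc : ∀ i : Fin (QsChow.numVars n), i.val ≠ 0 →
      Pc n hn i - X i ^ Nexp n i ∈ Ideal.span {ea n ^ 2 ^ a} := by
    intro i hi
    have hpm : ∀ e, 2 ^ a ≤ e → ea n ^ e ∈ Ideal.span {ea n ^ 2 ^ a} := fun e he =>
      Ideal.mem_span_singleton.2 (pow_dvd_pow _ he)
    have hle := le_exp n hn i hi
    rw [Pc, if_neg hi, Nexp]
    split_ifs with h1
    · obtain ⟨k, hk⟩ := Nat.exists_eq_add_of_le' (klog_pos n hn)
      rw [S, show i.val + 1 = 2 by omega, hk, sum_range_succ, K, show i.val + 1 = 2 by omega, hk, Nat.sub_self,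
        pow_zero, one_mul, Nat.add_sub_cancel, show (X i : A n) = eb n hn by rw [eb]; congr 1; exact Fin.ext h1,
        add_sub_cancel_right]
      refine Ideal.sum_mem _ fun t ht => Ideal.mul_mem_right _ _ (hpm _ ?_)
      have h1' : 2 ^ (t + 1) ≤ 2 ^ k := Nat.pow_le_pow_right (by norm_num) (mem_range.1 ht)
      rw [K, show 2 * (i.val + 1) - 3 = 1 by omega, one_mul, show i.val + 1 = 2 by omega, hk, pow_succ] at hle
      rw [pow_succ 2 k]
      omega
    · rw [add_sub_cancel_left]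
      refine Ideal.mul_mem_right _ _ (hpm _ ?_)
      rw [show 2 * (i.val + 1) - 3 = (2 * (i.val + 1) - 4) + 1 by omega, add_mul, one_mul] at hle
      have : 2 * K n i ≤ (2 * (i.val + 1) - 4) * K n i := Nat.mul_le_mul_right _ (by omega)
      omega
  have hM : (X l : A n) ^ Nexp n l = QsChow.evarE n (QsChow.lIdx n) ^ 2 ^ (QsChow.kprime n (QsChow.lIdx n) - 1) := by
    rw [hlIdx, hkpl, Nat.add_sub_cancel, Nexp, if_neg (by omega), K, hl, show r + 1 + 1 = r + 2 by ring, hkl,
      ← evarE_succ]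
  have hN : ∀ i : Fin (QsChow.numVars n), i.val ≠ 0 → i ≠ l →
      2 ^ QsChow.kprime n (i.val + 1) = Nexp n i := by
    intro i hi hil
    rw [Nexp]
    split_ifs with h1
    · rw [h1, kprime_two n hn (fun e => hnot i hi hil (QsChow.klog n 2) (by rw [h1]; simpa using e))]
    · rw [kprime_of_ne n hn _ (by omega) i.isLt (hnot i hi hil)]; rfl
  have hE1 : ea n ^ 2 ^ a ∈ QsChow.evenIdeal n := by
    refine Ideal.subset_span (Or.inr ⟨i0 n, ?_⟩)
    change QsChow.evarE n ((i0 n).val + 1) ^ 2 ^ QsChow.kprime n ((i0 n).val + 1) = _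
    rw [evarE_succ, show (i0 n).val + 1 = 1 from rfl, hkp1]; rfl
  have hEa : ea n * X l ^ Nexp n l ∈ QsChow.evenIdeal n := by
    rw [hM]
    refine Ideal.subset_span (Or.inl ?_)
    rw [Set.mem_singleton_iff, show ea n = QsChow.evarE n 1 from (evarE_succ n (i0 n)).symm]
  have hEsq : ((X l : A n) ^ Nexp n l) ^ 2 ∈ QsChow.evenIdeal n := by
    refine Ideal.subset_span (Or.inr ⟨l, ?_⟩)
    change QsChow.evarE n (l.val + 1) ^ 2 ^ QsChow.kprime n (l.val + 1) = _
    rw [hM, hlIdx, hl, hkpl, Nat.add_sub_cancel, ← pow_mul, ← pow_succ]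
  have hEi : ∀ i : Fin (QsChow.numVars n), i.val ≠ 0 → i ≠ l → (X i : A n) ^ Nexp n i ∈ QsChow.evenIdeal n := by
    intro i hi hil
    refine Ideal.subset_span (Or.inr ⟨i, ?_⟩)
    change QsChow.evarE n (i.val + 1) ^ 2 ^ QsChow.kprime n (i.val + 1) = _
    rw [evarE_succ, hN i hi hil]
  have hPE : ∀ i : Fin (QsChow.numVars n), i.val ≠ 0 → Pc n hn i - X i ^ Nexp n i ∈ QsChow.evenIdeal n :=
    fun i hi => Ideal.span_le.2 (Set.singleton_subset_iff.2 hE1) (hPc i hi)
  let J := QsChow.presIdeal n ⊔ Ideal.span {inc n (ea n) ^ 2 ^ a}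
  have hJi : ∀ f : A n, f ∈ Ideal.span {ea n ^ 2 ^ a} → inc n f ∈ J := by
    intro f hf
    obtain ⟨c, rfl⟩ := Ideal.mem_span_singleton'.1 hf
    rw [map_mul, map_pow]
    exact Ideal.mul_mem_left _ _ (Ideal.mem_sup_right (Ideal.mem_span_singleton_self _))
  have hxl : QsChow.xvar n + inc n (X l ^ Nexp n l) ∈ J := by
    have h1 : inc n (Pc n hn l) + QsChow.xvar n * inc n (ea n ^ eexp n l) ∈ J := Ideal.mem_sup_left (rel_mem n hn l hl0)
    rw [hel, pow_zero, map_one, mul_one] at h1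
    have h2 := hJi _ (hPc l hl0)
    rw [map_sub] at h2
    convert sub_mem h1 h2 using 1; ring
  have hxa : QsChow.xvar n * inc n (ea n) ∈ J := Ideal.mem_sup_left (x_ea_mem n)
  have key : ∀ q : A n, inc n q ∈ J ↔ q ∈ QsChow.evenIdeal n := by
    intro q
    constructor
    · intro hq
      have hmap : J ≤ Ideal.comap (elim n (X l ^ Nexp n l)).toRingHom (QsChow.evenIdeal n) := by
        refine sup_le (Ideal.span_le.2 ?_) (Ideal.span_le.2 (Set.singleton_subset_iff.2 ?_))
        · intro z hz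
          change elim n (X l ^ Nexp n l) z ∈ QsChow.evenIdeal n
          rcases hz with (rfl | rfl | rfl) | ⟨i, rfl⟩
          · rw [map_pow, elim_evar_one]
            exact Ideal.pow_mem_of_pow_mem _ hE1 (by omega)
          · rw [map_mul, elim_evar_one, elim_x]; exact hEa
          · rw [map_pow, elim_x]; exact hEsq
          · by_cases hi : i.val = 0
            · unfold QsChow.hrel; dsimp only; rw [if_neg (by omega), if_neg (by omega), map_zero]
              exact Ideal.zero_mem _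
            · dsimp only
              rw [show QsChow.hrel n (i.val + 1) = _ from hrel_eq n hn i hi, map_add, map_mul, elim_inc, elim_inc, elim_x]
              by_cases hil : i = l
              · subst hil
                rw [hel, pow_zero, mul_one]
                convert hPE l hl0 using 1
                linear_combination two_eq_zero ((X l : A n) ^ Nexp n l)
              · obtain ⟨e, he⟩ := Nat.exists_eq_add_of_le' (eexp_pos n hn i hi (hnot i hi hil))
                rw [← sub_add_cancel (Pc n hn i) (X i ^ Nexp n i), he]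
                refine Ideal.add_mem _ (Ideal.add_mem _ (hPE i hi) (hEi i hi hil)) ?_
                rw [pow_succ, show X l ^ Nexp n l * (ea n ^ e * ea n) = ea n ^ e * (ea n * X l ^ Nexp n l) by ring]
                exact Ideal.mul_mem_left _ _ hEa
        · rw [SetLike.mem_coe, Ideal.mem_comap]
          change elim n (X l ^ Nexp n l) (inc n (ea n) ^ 2 ^ a) ∈ _
          rw [map_pow, elim_inc]; exact hE1
      have := hmap hq
      rw [Ideal.mem_comap] at this
      change elim n _ (inc n q) ∈ _ at this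
      rwa [elim_inc] at this
    · intro hq
      refine (show QsChow.evenIdeal n ≤ J.comap (inc n).toRingHom from Ideal.span_le.2 ?_) hq
      intro z hz
      change inc n z ∈ J
      rcases hz with rfl | ⟨i, rfl⟩
      · rw [← hM, show QsChow.evarE n 1 = ea n from evarE_succ n (i0 n), map_mul,
          show inc n (ea n) * inc n (X l ^ Nexp n l) = inc n (ea n) * (QsChow.xvar n + inc n (X l ^ Nexp n l)) -
            QsChow.xvar n * inc n (ea n) by ring]
        exact sub_mem (Ideal.mul_mem_left _ _ hxl) hxa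
      · change inc n (QsChow.evarE n (i.val + 1) ^ 2 ^ QsChow.kprime n (i.val + 1)) ∈ J
        rw [evarE_succ]
        by_cases hi : i.val = 0
        · rw [show i = i0 n from Fin.ext hi, show (i0 n).val + 1 = 1 from rfl, hkp1]
          exact hJi _ (Ideal.mem_span_singleton_self _)
        · by_cases hil : i = l
          · subst hil
            rw [show (X l : A n) ^ 2 ^ QsChow.kprime n (l.val + 1) = (X l ^ Nexp n l) ^ 2 by
              rw [hl, hkpl, Nexp, if_neg (by omega), K, hl, hkl, ← pow_mul, ← pow_succ], map_pow,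
              show inc n (X l ^ Nexp n l) ^ 2 = (inc n (X l ^ Nexp n l) - QsChow.xvar n) *
                (QsChow.xvar n + inc n (X l ^ Nexp n l)) + QsChow.xvar n ^ 2 by ring]
            exact Ideal.add_mem _ (Ideal.mul_mem_left _ _ hxl) (Ideal.mem_sup_left (x_sq_mem n))
          · rw [hN i hi hil]
            have h2 := hJi _ (hPc i hi)
            rw [map_sub] at h2
            have h3 : QsChow.xvar n * inc n (ea n ^ eexp n i) ∈ J := by
              obtain ⟨e, he⟩ := Nat.exists_eq_add_of_le' (eexp_pos n hn i hi (hnot i hi hil))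
              rw [he, pow_succ, map_mul, mul_left_comm]
              exact Ideal.mul_mem_left _ _ hxa
            convert sub_mem (sub_mem (Ideal.mem_sup_left (rel_mem n hn i hi) : _ ∈ J) h2) h3 using 1
            ring
  refine ⟨fun q => ?_, fun z hz => ?_⟩
  · rw [psiE_eq, mul_fixed_iff n hn τ hτ1 hτ]
    exact key q
  · obtain ⟨f, rfl⟩ := (fixed_iff n hn τ hτ1 hτ).1 hz
    obtain ⟨g, h, e⟩ := exists_repr n f
    have hmem : f - inc n (g - X l ^ Nexp n l * h) ∈ J := by
      convert Ideal.add_mem _ (Ideal.mem_sup_left e : _ ∈ J) (Ideal.mul_mem_right (inc n h) _ hxl) using 1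
      rw [map_sub, map_mul]; ring
    obtain ⟨w, hw, hwe⟩ := (mul_fixed_iff n hn τ hτ1 hτ _ _).2 hmem
    refine ⟨g - X l ^ Nexp n l * h, w, hw, ?_⟩
    rw [psiE_eq, ← hwe, map_sub (QsChow.phi n), add_sub_cancel]

include hn hτ1 hτ in
theorem pow_presentation (b : ℕ) (hnb : n = 2 ^ b) :
    (QsChow.psi n).range = AlgHom.equalizer τ (AlgHom.id (ZMod 2) (QsChow.P n)) ∧
      RingHom.ker (QsChow.psi n) = QsChow.powIdeal n := by
  have hb : 1 ≤ b := by
    rcases Nat.eq_zero_or_pos b with rfl | h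
    · simp at hnb; omega
    · exact h
  have hk2 : QsChow.klog n 2 = b := by
    obtain ⟨h1, h2⟩ := log_facts n hn
    rw [hnb] at h1 h2
    have := (Nat.pow_le_pow_iff_right (by norm_num : 1 < 2)).1 h1
    have := (Nat.pow_lt_pow_iff_right (by norm_num : 1 < 2)).1 h2
    rw [hnb]; omega
  have hkp2 : QsChow.kprime n 2 = b := by rw [QsChow.kprime, if_neg (by omega), if_pos rfl, hnb, Nat.log_pow (by norm_num)]
  have hkp1 : QsChow.kprime n 1 = b := by
    rw [QsChow.kprime, if_pos rfl, QsChow.twoExp, hnb, padicValNat.prime_pow]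
  have hnot : ∀ i : Fin (QsChow.numVars n), 2 ≤ i.val → ∀ t, n ≠ (2 * (i.val + 1) - 3) * 2 ^ t := by
    intro i hi t e
    have := (odd_mul_two_pow_inj (a := 1) (b := 2 * (i.val + 1) - 3) (s := b) (t := t) odd_one ⟨i.val - 1, by omega⟩ (by rw [one_mul, ← hnb]; exact e)).2
    omega
  set S2 := Pc n hn (i1 n hn) with hS2def
  have hS2 : S2 = ∑ t ∈ range b, ea n ^ (2 ^ b - 2 ^ (t + 1)) * eb n hn ^ 2 ^ t := by
    rw [hS2def, Pc, if_neg (by simp [i1]), if_pos (by simp [i1]), S, K]
    simp [i1, hk2]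
  have hel : eexp n (i1 n hn) = 0 := by rw [eexp, K]; simp [i1, hk2]; omega
  have hxl : QsChow.xvar n + inc n S2 ∈ QsChow.presIdeal n := by
    have := rel_mem n hn (i1 n hn) (by simp [i1])
    rwa [hel, pow_zero, map_one, mul_one, add_comm] at this
  have hEn : ea n ^ n ∈ QsChow.powIdeal n := by
    refine Ideal.subset_span (Or.inr ⟨i0 n, ?_⟩)
    change QsChow.evarE n ((i0 n).val + 1) ^ 2 ^ QsChow.kprime n ((i0 n).val + 1) = _
    rw [evarE_succ, show (i0 n).val + 1 = 1 from rfl, hkp1, ← hnb]; rfl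
  have hEa : ea n * S2 ∈ QsChow.powIdeal n := by
    refine Ideal.subset_span (Or.inl ?_)
    rw [Set.mem_singleton_iff, hkp2, hS2, show QsChow.evarE n 1 = ea n from evarE_succ n (i0 n),
      show QsChow.evarE n 2 = eb n hn from evarE_succ n (i1 n hn)]
  have hsq : S2 ^ 2 - eb n hn ^ n ∈ Ideal.span {ea n ^ n} := by
    obtain ⟨k, rfl⟩ := Nat.exists_eq_add_of_le' hb
    haveI : CharP (A n) 2 := inferInstance
    rw [hS2, CharTwo.sum_sq, sum_range_succ, Nat.sub_self, pow_zero, one_mul, ← pow_mul, ← pow_succ, ← hnb,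
      add_sub_cancel_right]
    refine Ideal.sum_mem _ fun t ht => ?_
    rw [mul_pow, ← pow_mul]
    refine Ideal.mul_mem_right _ _ (Ideal.mem_span_singleton.2 (pow_dvd_pow _ ?_))
    have h1 : 2 ^ (t + 1) ≤ 2 ^ k := Nat.pow_le_pow_right (by norm_num) (mem_range.1 ht)
    rw [hnb, pow_succ 2 k]
    omega
  have hEb : eb n hn ^ n ∈ QsChow.powIdeal n := by
    refine Ideal.subset_span (Or.inr ⟨i1 n hn, ?_⟩)
    change QsChow.evarE n ((i1 n hn).val + 1) ^ 2 ^ QsChow.kprime n ((i1 n hn).val + 1) = _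
    rw [evarE_succ, show (i1 n hn).val + 1 = 2 from rfl, hkp2, ← hnb]; rfl
  have hPc : ∀ i : Fin (QsChow.numVars n), 2 ≤ i.val → Pc n hn i - X i ^ K n i ∈ Ideal.span {ea n ^ n} := by
    intro i hi
    rw [Pc, if_neg (by omega), if_neg (by omega), add_sub_cancel_left]
    refine Ideal.mul_mem_right _ _ (Ideal.mem_span_singleton.2 (pow_dvd_pow _ ?_))
    have hle := le_exp n hn i (by omega)
    have hne := hnot i hi (QsChow.klog n (i.val + 1))
    change _ ≠ _ * K n i at hne
    have hlt : n < (2 * (i.val + 1) - 3) * K n i := lt_of_le_of_ne hle hne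
    rcases le_or_gt (QsChow.klog n (i.val + 1)) b with hkb | hkb
    · obtain ⟨d, hd⟩ := Nat.exists_eq_add_of_le hkb
      have hn' : n = 2 ^ d * K n i := by
        rw [K, ← pow_add, add_comm d, ← hd]; exact hnb
      have hm : 2 ^ d < 2 * (i.val + 1) - 3 := Nat.lt_of_mul_lt_mul_right (hn'.symm.trans_lt hlt)
      calc n = 2 ^ d * K n i := hn'
        _ ≤ (2 * (i.val + 1) - 4) * K n i := Nat.mul_le_mul_right _ (by omega)
    · have h1 : n ≤ K n i := by
        rw [K]; exact hnb.le.trans (Nat.pow_le_pow_right (by norm_num) hkb.le)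
      exact h1.trans (Nat.le_mul_of_pos_left _ (by omega))
  have hEi : ∀ i : Fin (QsChow.numVars n), 2 ≤ i.val → (X i : A n) ^ K n i ∈ QsChow.powIdeal n := by
    intro i hi
    refine Ideal.subset_span (Or.inr ⟨i, ?_⟩)
    change QsChow.evarE n (i.val + 1) ^ 2 ^ QsChow.kprime n (i.val + 1) = _
    rw [evarE_succ, kprime_of_ne n hn _ (by omega) i.isLt (hnot i hi)]; rfl
  have hpE : ∀ f ∈ Ideal.span {ea n ^ n}, f ∈ QsChow.powIdeal n := fun f hf =>
    Ideal.span_le.2 (Set.singleton_subset_iff.2 hEn) hf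
  have hpI : ∀ f ∈ Ideal.span {ea n ^ n}, inc n f ∈ QsChow.presIdeal n := by
    intro f hf
    obtain ⟨c, rfl⟩ := Ideal.mem_span_singleton'.1 hf
    rw [map_mul]
    exact Ideal.mul_mem_left _ _ (pow_mem n)
  have key : ∀ q : A n, inc n q ∈ QsChow.presIdeal n ↔ q ∈ QsChow.powIdeal n := by
    intro q
    constructor
    · intro hq
      have hmap : QsChow.presIdeal n ≤ Ideal.comap (elim n S2).toRingHom (QsChow.powIdeal n) := by
        refine Ideal.span_le.2 ?_
        intro z hz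
        change elim n S2 z ∈ QsChow.powIdeal n
        rcases hz with (rfl | rfl | rfl) | ⟨i, rfl⟩
        · rw [map_pow, elim_evar_one]; exact hEn
        · rw [map_mul, elim_evar_one, elim_x]; exact hEa
        · rw [map_pow, elim_x, ← sub_add_cancel (S2 ^ 2) (eb n hn ^ n)]
          exact Ideal.add_mem _ (hpE _ hsq) hEb
        · by_cases hi : i.val = 0
          · unfold QsChow.hrel; dsimp only; rw [if_neg (by omega), if_neg (by omega), map_zero]
            exact Ideal.zero_mem _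
          · dsimp only
            rw [show QsChow.hrel n (i.val + 1) = _ from hrel_eq n hn i hi, map_add, map_mul, elim_inc, elim_inc, elim_x]
            by_cases h1 : i.val = 1
            · rw [show i = i1 n hn from Fin.ext h1, hel, pow_zero, mul_one, ← hS2def, two_eq_zero]
              exact Ideal.zero_mem _
            · obtain ⟨e, he⟩ := Nat.exists_eq_add_of_le' (eexp_pos n hn i hi (hnot i (by omega)))
              rw [← sub_add_cancel (Pc n hn i) (X i ^ K n i), he]
              refine Ideal.add_mem _ (Ideal.add_mem _ (hpE _ (hPc i (by omega))) (hEi i (by omega))) ?_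
              rw [pow_succ, show S2 * (ea n ^ e * ea n) = ea n ^ e * (ea n * S2) by ring]
              exact Ideal.mul_mem_left _ _ hEa
      have := hmap hq
      rw [Ideal.mem_comap] at this
      change elim n _ (inc n q) ∈ _ at this
      rwa [elim_inc] at this
    · intro hq
      refine (show QsChow.powIdeal n ≤ (QsChow.presIdeal n).comap (inc n).toRingHom from Ideal.span_le.2 ?_) hq
      intro z hz
      change inc n z ∈ QsChow.presIdeal n
      rcases hz with rfl | ⟨i, rfl⟩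
      · rw [hkp2, show QsChow.evarE n 1 = ea n from evarE_succ n (i0 n),
          show QsChow.evarE n 2 = eb n hn from evarE_succ n (i1 n hn), ← hS2, map_mul,
          show inc n (ea n) * inc n S2 = inc n (ea n) * (QsChow.xvar n + inc n S2) - QsChow.xvar n * inc n (ea n) by ring]
        exact sub_mem (Ideal.mul_mem_left _ _ hxl) (x_ea_mem n)
      · change inc n (QsChow.evarE n (i.val + 1) ^ 2 ^ QsChow.kprime n (i.val + 1)) ∈ _
        rw [evarE_succ]
        by_cases hi : i.val = 0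
        · rw [show i = i0 n from Fin.ext hi, show (i0 n).val + 1 = 1 from rfl, hkp1, ← hnb]
          exact hpI _ (Ideal.mem_span_singleton_self _)
        · by_cases h1 : i.val = 1
          · rw [show i = i1 n hn from Fin.ext h1, show (i1 n hn).val + 1 = 2 from rfl, hkp2, ← hnb]
            have h2 := hpI _ hsq
            rw [map_sub, map_pow (inc n) S2] at h2
            change inc n (eb n hn ^ n) ∈ _
            convert sub_mem (Ideal.add_mem _ (Ideal.mul_mem_left _ (inc n S2 - QsChow.xvar n) hxl) (x_sq_mem n)) h2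
              using 1
            ring
          · rw [kprime_of_ne n hn _ (by omega) i.isLt (hnot i (by omega))]
            change inc n (X i ^ K n i) ∈ _
            have h2 := hpI _ (hPc i (by omega))
            rw [map_sub] at h2
            have h3 : QsChow.xvar n * inc n (ea n ^ eexp n i) ∈ QsChow.presIdeal n := by
              obtain ⟨e, he⟩ := Nat.exists_eq_add_of_le' (eexp_pos n hn i hi (hnot i (by omega)))
              rw [he, pow_succ, map_mul, mul_left_comm]
              exact Ideal.mul_mem_left _ _ (x_ea_mem n)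
            convert sub_mem (sub_mem (rel_mem n hn i hi) h2) h3 using 1
            ring
  refine ⟨?_, Ideal.ext fun q => ?_⟩
  · rw [← range_phi n hn τ hτ1 hτ]
    refine le_antisymm ?_ ?_
    · rintro _ ⟨q, rfl⟩; exact ⟨inc n q, (psiE_eq n q).symm⟩
    · rintro _ ⟨f, rfl⟩
      obtain ⟨g, h, e⟩ := exists_repr n f
      refine ⟨g - S2 * h, ?_⟩
      change QsChow.psi n _ = QsChow.phi n f
      rw [psiE_eq, eq_comm, ← sub_eq_zero, ← map_sub]
      apply phi_presIdeal n hn
      convert Ideal.add_mem _ e (Ideal.mul_mem_right (inc n h) _ hxl) using 1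
      rw [map_sub, map_mul]; ring
  · rw [RingHom.mem_ker, psiE_eq, ← key, ← ker_phi n hn, RingHom.mem_ker]

end Groth.Agent.QsAlgLib
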