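import Groth.Agent.QsAlgLib.Basic

/-!
# The kernel and the image of `phi`
-/

open MvPolynomial Finset

namespace Groth.Agent.QsAlgLib

variable (n : ℕ) (hn : 2 ≤ n)

/-- The inclusion of `A`. -/
noncomputable def inc : A n →ₐ[ZMod 2] QsChow.FreeE n := rename some

theorem evar_succ (i : Fin (QsChow.numVars n)) : QsChow.evar n (i.val + 1) = inc n (X i) := by
  rw [QsChow.evar, dif_pos ⟨Nat.succ_pos _, i.isLt⟩, inc, rename_X]
  congr

theorem eps_succ (i : Fin (QsChow.numVars n)) :
    QsChow.eps n (i.val + 1) = Ideal.Quotient.mk (QsChow.truncIdeal n) (X i) := by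
  rw [QsChow.eps, dif_pos ⟨Nat.succ_pos _, i.isLt⟩]
  congr

theorem evar_one : QsChow.evar n 1 = inc n (ea n) := evar_succ n (i0 n)

theorem evar_two : QsChow.evar n 2 = inc n (eb n hn) := evar_succ n (i1 n hn)

theorem eps_one : QsChow.eps n 1 = Ideal.Quotient.mk (QsChow.truncIdeal n) (X (i0 n)) := eps_succ n (i0 n)

theorem eps_two : QsChow.eps n 2 = Ideal.Quotient.mk (QsChow.truncIdeal n) (X (i1 n hn)) := eps_succ n (i1 n hn)

/-- A lift of `phi`. -/
noncomputable def phiLift : QsChow.FreeE n →ₐ[ZMod 2] QsChow.FreeP n :=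
  aeval fun
    | none => X (i0 n) ^ (n - 1) * X (i1 n hn)
    | some i => if i.val = 0 then X (i0 n) else if i.val = 1 then X (i1 n hn) ^ 2 + X (i0 n) * X (i1 n hn)
      else X i + X (i0 n) ^ (2 * (i.val + 1) - 4) * X (i1 n hn)

theorem phi_eq (f : QsChow.FreeE n) : QsChow.phi n f = Ideal.Quotient.mk (QsChow.truncIdeal n) (phiLift n hn f) := by
  suffices h : QsChow.phi n = (Ideal.Quotient.mkₐ (ZMod 2) (QsChow.truncIdeal n)).comp (phiLift n hn) from
    congrArg (fun g : QsChow.FreeE n →ₐ[ZMod 2] QsChow.P n => g f) h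
  refine algHom_ext fun i => ?_
  rw [QsChow.phi, phiLift, aeval_X, AlgHom.comp_apply, aeval_X, Ideal.Quotient.mkₐ_eq_mk]
  rcases i with - | i
  · simp only [QsChow.genImage, map_mul, map_pow, eps_one, eps_two n hn]
  · simp only [QsChow.genImage, eps_one, eps_two n hn, eps_succ]
    split_ifs <;> simp only [map_add, map_mul, map_pow]

theorem psi_X (i : Fin (QsChow.numVars n)) : psi n hn (X i) = if i.val = 0 then ofA n hn (ea n)
    else if i.val = 1 then rb n hn else ofA n hn (X i) + ofA n hn (ea n) ^ (2 * (i.val + 1) - 4) * rb n hn :=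
  aeval_X _ _

theorem psi_X0 : psi n hn (X (i0 n)) = ofA n hn (ea n) := by rw [psi_X]; simp [i0]

theorem psi_X1 : psi n hn (X (i1 n hn)) = rb n hn := by rw [psi_X]; simp [i1]

theorem psi_phiLift_inc (g : A n) : psi n hn (phiLift n hn (inc n g)) = ofA n hn g := by
  suffices h : ((psi n hn).comp (phiLift n hn)).comp (inc n) = ofA n hn from
    congrArg (fun q : A n →ₐ[ZMod 2] Q n hn => q g) h
  refine algHom_ext fun i => ?_
  rw [AlgHom.comp_apply, AlgHom.comp_apply, inc, rename_X, phiLift, aeval_X]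
  dsimp only
  by_cases h0 : i.val = 0
  · rw [if_pos h0, psi_X0, show i = i0 n from Fin.ext h0]; rfl
  · by_cases h1 : i.val = 1
    · rw [if_neg h0, if_pos h1, map_add, map_pow, map_mul, psi_X0, psi_X1, rb_sq, show (X i : A n) = eb n hn by rw [eb]; congr 1; exact Fin.ext h1]
      linear_combination two_eq_zero (ofA n hn (ea n) * rb n hn)
    · rw [if_neg h0, if_neg h1, map_add, map_mul, map_pow, psi_X n hn i, if_neg h0, if_neg h1, psi_X0,
        psi_X1]
      linear_combination two_eq_zero (ofA n hn (ea n) ^ (2 * (i.val + 1) - 4) * rb n hn)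

theorem psi_phiLift_x : psi n hn (phiLift n hn (QsChow.xvar n)) = ofA n hn (ea n ^ (n - 1)) * rb n hn := by
  rw [QsChow.xvar, phiLift, aeval_X, map_mul, map_pow, psi_X, psi_X]
  simp [i0, i1]

/-- The inverse change of variables. -/
noncomputable def chi : Q n hn →+* QsChow.FreeP n :=
  AdjoinRoot.lift ((phiLift n hn).comp (inc n)).toRingHom (X (i1 n hn)) (by
    simp only [Polynomial.eval₂_add, Polynomial.eval₂_mul, Polynomial.eval₂_pow, Polynomial.eval₂_X,
      Polynomial.eval₂_C, AlgHom.toRingHom_eq_coe, RingHom.coe_coe, AlgHom.comp_apply, ea, eb, inc, rename_X,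
      phiLift, aeval_X]
    rw [if_pos (show (i0 n).val = 0 from rfl), if_neg (show ¬ (i1 n hn).val = 0 by simp [i1]),
      if_pos (show (i1 n hn).val = 1 from rfl)]
    exact two_eq_zero _)

theorem psi_injective : Function.Injective (psi n hn) := by
  refine Function.LeftInverse.injective (g := chi n hn) fun F => ?_
  have hof : ∀ g, chi n hn (ofA n hn g) = phiLift n hn (inc n g) := fun g => AdjoinRoot.lift_of _
  have hrb : chi n hn (rb n hn) = X (i1 n hn) := AdjoinRoot.lift_root _
  induction F using MvPolynomial.induction_on with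
  | C r =>
    rw [show psi n hn (C r) = ofA n hn (C r) from (AlgHom.commutes _ r).trans (AlgHom.commutes (ofA n hn) r).symm, hof,
      inc, rename_C, phiLift, aeval_C, algebraMap_eq]
  | add p q hp hq => rw [map_add, map_add, hp, hq]
  | mul_X p i hp =>
    rw [map_mul, map_mul, hp]
    congr 1
    rw [psi_X]
    by_cases h0 : i.val = 0
    · rw [if_pos h0, hof, ea, inc, rename_X, phiLift, aeval_X]
      simp only [i0, if_pos]
      congr 1; exact (Fin.ext h0).symm
    · by_cases h1 : i.val = 1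
      · rw [if_neg h0, if_pos h1, hrb]; congr 1; exact (Fin.ext h1).symm
      · rw [if_neg h0, if_neg h1, map_add, map_mul, map_pow, hof, hof, hrb, ea, inc, rename_X, rename_X, phiLift,
          aeval_X, aeval_X]
        simp only [if_neg h0, if_neg h1]
        rw [if_pos (show (i0 n).val = 0 from rfl)]
        linear_combination two_eq_zero ((X (i0 n) : QsChow.FreeP n) ^ (2 * (i.val + 1) - 4) * X (i1 n hn))

/-- `(2j-3)2^k_j - n`. -/
def eexp (i : Fin (QsChow.numVars n)) : ℕ := (2 * (i.val + 1) - 3) * K n i - n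

include hn in
theorem mexp_eq (i : Fin (QsChow.numVars n)) (hi : i.val ≠ 0) : mexp n i = n - 1 + eexp n i := by
  have := le_exp n hn i hi
  rw [mexp, eexp]; omega

theorem hrel_eq (i : Fin (QsChow.numVars n)) (hi : i.val ≠ 0) :
    QsChow.hrel n (i.val + 1) = inc n (Pc n hn i) + QsChow.xvar n * inc n (ea n ^ eexp n i) := by
  have hs : QsChow.sPoly n (i.val + 1) = inc n (S n hn i) := by
    rw [QsChow.sPoly, S, map_sum]
    simp only [map_mul, map_pow, evar_one, evar_two n hn]
    rfl
  by_cases h1 : i.val = 1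
  · rw [QsChow.hrel, if_pos (by omega), Pc, if_neg hi, if_pos h1, ← hs, show i.val + 1 = 2 by omega, evar_one,
      map_pow, eexp, K, show i.val + 1 = 2 by omega]
    simp only [Nat.reduceMul, Nat.reduceSub, one_mul]
    ring
  · rw [QsChow.hrel, if_neg (by omega), if_pos ⟨by omega, i.isLt⟩, Pc, if_neg hi, if_neg h1, map_add, map_mul,
      map_pow, map_pow, map_pow, ← hs, evar_one, evar_succ, eexp, K]
    ring

theorem pow_mem : inc n (ea n ^ n) ∈ QsChow.presIdeal n := by
  rw [map_pow, ← evar_one]; exact Ideal.subset_span (Or.inl (Or.inl rfl))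

theorem x_ea_mem : QsChow.xvar n * inc n (ea n) ∈ QsChow.presIdeal n := by
  rw [mul_comm, ← evar_one]; exact Ideal.subset_span (Or.inl (Or.inr (Or.inl rfl)))

theorem x_sq_mem : QsChow.xvar n ^ 2 ∈ QsChow.presIdeal n := Ideal.subset_span (Or.inl (Or.inr (Or.inr rfl)))

theorem rel_mem (i : Fin (QsChow.numVars n)) (hi : i.val ≠ 0) :
    inc n (Pc n hn i) + QsChow.xvar n * inc n (ea n ^ eexp n i) ∈ QsChow.presIdeal n := by
  rw [← hrel_eq n hn i hi]; exact Ideal.subset_span (Or.inr ⟨i, rfl⟩)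

theorem x_Pc_mem (i : Fin (QsChow.numVars n)) (hi : i.val ≠ 0) :
    QsChow.xvar n * inc n (Pc n hn i) ∈ QsChow.presIdeal n := by
  rw [show QsChow.xvar n * inc n (Pc n hn i) = QsChow.xvar n * (inc n (Pc n hn i) +
      QsChow.xvar n * inc n (ea n ^ eexp n i)) - QsChow.xvar n ^ 2 * inc n (ea n ^ eexp n i) by ring]
  exact sub_mem (Ideal.mul_mem_left _ _ (rel_mem n hn i hi)) (Ideal.mul_mem_right _ _ (x_sq_mem n))

include hn in
theorem presIdeal_le : QsChow.presIdeal n ≤ RingHom.ker (QsChow.phi n) := by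
  refine Ideal.span_le.2 fun z hz => ?_
  change QsChow.phi n z = 0
  rw [phi_eq n hn, Ideal.Quotient.eq_zero_iff_mem]
  have hgen : ∀ i : Fin (QsChow.numVars n), (X i : QsChow.FreeP n) ^ QsChow.bound n i ∈ QsChow.truncIdeal n :=
    fun i => Ideal.subset_span ⟨i, rfl⟩
  have h0 : (X (i0 n) : QsChow.FreeP n) ^ n ∈ QsChow.truncIdeal n := by
    simpa [QsChow.bound, i0] using hgen (i0 n)
  have hx : phiLift n hn (QsChow.xvar n) = X (i0 n) ^ (n - 1) * X (i1 n hn) := aeval_X _ _
  have ha : phiLift n hn (QsChow.evar n 1) = X (i0 n) := by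
    rw [evar_one, inc, ea, rename_X, phiLift, aeval_X]; dsimp only; rw [if_pos]; rfl
  rcases hz with (rfl | rfl | rfl) | ⟨i, rfl⟩
  · rw [map_pow, ha]; exact h0
  · rw [map_mul, ha, hx, ← mul_assoc, ← pow_succ', show n - 1 + 1 = n by omega]
    exact Ideal.mul_mem_right _ _ h0
  · rw [map_pow, hx, mul_pow, ← pow_mul, show (n - 1) * 2 = n + (n - 2) by omega, pow_add]
    exact Ideal.mul_mem_right _ _ (Ideal.mul_mem_right _ _ h0)
  · by_cases hi : i.val = 0
    · unfold QsChow.hrel
      dsimp only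
      rw [if_neg (by omega), if_neg (by omega), map_zero]; exact Ideal.zero_mem _
    · change phiLift n hn (QsChow.hrel n (i.val + 1)) ∈ _
      rw [show phiLift n hn (QsChow.hrel n (i.val + 1)) = (X i : QsChow.FreeP n) ^ QsChow.bound n i from
        psi_injective n hn (by
          rw [hrel_eq n hn i hi, map_add, map_mul, map_add, map_mul, psi_phiLift_inc, psi_phiLift_inc,
            psi_phiLift_x, psi_rel, Mc, if_neg hi, mexp_eq n hn i hi, pow_add, map_mul]
          ring)]
      exact hgen i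

theorem exists_repr (f : QsChow.FreeE n) :
    ∃ g h : A n, f - (inc n g + QsChow.xvar n * inc n h) ∈ QsChow.presIdeal n := by
  induction f using MvPolynomial.induction_on with
  | C r => exact ⟨C r, 0, by simp [inc]⟩
  | add p q hp hq =>
    obtain ⟨g, h, e⟩ := hp; obtain ⟨g', h', e'⟩ := hq
    exact ⟨g + g', h + h', by convert Ideal.add_mem _ e e' using 1; rw [map_add, map_add]; ring⟩
  | mul_X p i hp =>
    obtain ⟨g, h, e⟩ := hp
    rcases i with - | i
    · refine ⟨0, g, ?_⟩
      convert Ideal.add_mem _ (Ideal.mul_mem_right (QsChow.xvar n) _ e) (Ideal.mul_mem_left _ (inc n h) (x_sq_mem n)) using 1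
      rw [map_zero, show (X none : QsChow.FreeE n) = QsChow.xvar n from rfl]; ring
    · refine ⟨g * X i, h * X i, ?_⟩
      convert Ideal.mul_mem_right (inc n (X i)) _ e using 1
      rw [map_mul, map_mul, show (X (some i) : QsChow.FreeE n) = inc n (X i) from (rename_X _ _).symm]; ring

/-- Split off the index `0` in the two coordinates. -/
theorem sum_split (u v : Fin (QsChow.numVars n) → A n) :
    (∑ i, (u i * Pc n hn i + v i * Mc n i * eb n hn)) = u (i0 n) * ea n ^ n +
        ∑ i ∈ univ.filter (fun i : Fin (QsChow.numVars n) => i.val ≠ 0),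
          (u i * Pc n hn i + v i * ea n ^ mexp n i * eb n hn) ∧
    (∑ i, (u i * Mc n i + v i * (Pc n hn i + ea n * Mc n i))) = v (i0 n) * ea n ^ n +
        ∑ i ∈ univ.filter (fun i : Fin (QsChow.numVars n) => i.val ≠ 0),
          (u i * ea n ^ mexp n i + v i * (Pc n hn i + ea n * ea n ^ mexp n i)) := by
  have hf : univ.filter (fun i : Fin (QsChow.numVars n) => i.val ≠ 0) = univ.erase (i0 n) := by
    ext i; simp [i0, Fin.ext_iff]
  rw [hf, ← add_sum_erase univ (fun i => u i * Pc n hn i + v i * Mc n i * eb n hn) (mem_univ (i0 n)),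
    ← add_sum_erase univ (fun i => u i * Mc n i + v i * (Pc n hn i + ea n * Mc n i)) (mem_univ (i0 n))]
  have hne : ∀ i ∈ univ.erase (i0 n), i.val ≠ 0 := fun i hi h => (mem_erase.1 hi).1 (Fin.ext h)
  constructor
  · rw [sum_congr rfl fun i hi => show u i * Pc n hn i + v i * Mc n i * eb n hn =
        u i * Pc n hn i + v i * ea n ^ mexp n i * eb n hn by rw [Mc, if_neg (hne i hi)]]
    simp [Pc, Mc, i0]
  · rw [sum_congr rfl fun i hi => show u i * Mc n i + v i * (Pc n hn i + ea n * Mc n i) =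
        u i * ea n ^ mexp n i + v i * (Pc n hn i + ea n * ea n ^ mexp n i) by rw [Mc, if_neg (hne i hi)]]
    simp [Pc, Mc, i0]

theorem coeff_mem_of_eq (u v : Fin (QsChow.numVars n) → A n) (q : A n)
    (h : ea n * q = v (i0 n) * ea n ^ n + ∑ i ∈ univ.filter (fun i : Fin (QsChow.numVars n) => i.val ≠ 0),
      (u i * ea n ^ mexp n i + v i * (Pc n hn i + ea n * ea n ^ mexp n i)))
    (l : Fin (QsChow.numVars n)) (hl : l.val ≠ 0) : v l ∈ Ideal.span {ea n} ⊔ PI n hn := by
  refine coeff_mem n hn v ?_ l hl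
  have ha : ea n ∈ Ideal.span {ea n} := Ideal.mem_span_singleton_self _
  have e : ∑ i ∈ univ.filter (fun i : Fin (QsChow.numVars n) => i.val ≠ 0), v i * Pc n hn i =
      ea n * q - v (i0 n) * ea n ^ n - ∑ i ∈ univ.filter (fun i : Fin (QsChow.numVars n) => i.val ≠ 0),
        (u i * ea n ^ mexp n i + v i * (ea n * ea n ^ mexp n i)) := by
    rw [h, add_sub_cancel_left, ← sum_sub_distrib]
    exact sum_congr rfl fun i _ => by ring
  rw [e]
  refine sub_mem (sub_mem (Ideal.mul_mem_right _ _ ha) (Ideal.mul_mem_left _ _ (Ideal.pow_mem_of_mem _ ha n (by omega))))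
    (Ideal.sum_mem _ fun i hi => Ideal.add_mem _ (Ideal.mul_mem_left _ _ (Ideal.pow_mem_of_mem _ ha _ ?_))
      (Ideal.mul_mem_left _ _ (Ideal.mul_mem_right _ _ ha)))
  have := mexp_eq n hn i (mem_filter.1 hi).2
  omega

theorem pow_mul_PI_mem {w : A n} (hw : w ∈ PI n hn) : QsChow.xvar n * inc n w ∈ QsChow.presIdeal n := by
  refine Submodule.span_induction ?_ (by simp) (fun a b _ _ ha hb => by rw [map_add, mul_add]; exact add_mem ha hb)
    (fun c a _ ha => by rw [smul_eq_mul, map_mul, mul_left_comm]; exact Ideal.mul_mem_left _ _ ha) hw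
  rintro _ ⟨i, hi, rfl⟩
  exact x_Pc_mem n hn i hi

theorem inc_pow_mul_mem {w : A n} (hw : w ∈ Ideal.span {ea n} ⊔ PI n hn) (i : Fin (QsChow.numVars n))
    (hi : i.val ≠ 0) : inc n (w * ea n ^ mexp n i) ∈ QsChow.presIdeal n := by
  obtain ⟨_, ha, p, hp, rfl⟩ := Submodule.mem_sup.1 hw
  obtain ⟨c, rfl⟩ := Ideal.mem_span_singleton'.1 ha
  rw [add_mul, map_add, mexp_eq n hn i hi, pow_add]
  refine Ideal.add_mem _ ?_ ?_
  · rw [show c * ea n * (ea n ^ (n - 1) * ea n ^ eexp n i) = (c * ea n ^ eexp n i) * (ea n * ea n ^ (n - 1)) by ring,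
      ← pow_succ', show n - 1 + 1 = n by omega, map_mul]
    exact Ideal.mul_mem_left _ _ (pow_mem n)
  · rw [show p * (ea n ^ (n - 1) * ea n ^ eexp n i) = ea n ^ eexp n i * (ea n ^ (n - 1) * p) by ring, map_mul]
    refine Ideal.mul_mem_left _ _ ?_
    refine Submodule.span_induction ?_ (by simp) (fun a b _ _ ha hb => by rw [mul_add, map_add]; exact add_mem ha hb)
      (fun c a _ ha => by rw [smul_eq_mul, mul_left_comm, map_mul]; exact Ideal.mul_mem_left _ _ ha) hp
    rintro _ ⟨j, hj, rfl⟩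
    have h1 := rel_mem n hn j hj
    have h2 := x_ea_mem n
    obtain ⟨m, hm⟩ := Nat.exists_eq_add_of_le' (show 1 ≤ n - 1 by omega)
    rw [hm, pow_succ, map_mul, map_mul,
      show inc n (ea n ^ m) * inc n (ea n) * inc n (Pc n hn j) = inc n (ea n ^ m) * inc n (ea n) *
        (inc n (Pc n hn j) + QsChow.xvar n * inc n (ea n ^ eexp n j)) -
          inc n (ea n ^ m) * inc n (ea n ^ eexp n j) * (QsChow.xvar n * inc n (ea n)) by ring]
    exact sub_mem (Ideal.mul_mem_left _ _ h1) (Ideal.mul_mem_left _ _ h2)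

include hn in
theorem ker_phi : RingHom.ker (QsChow.phi n) = QsChow.presIdeal n := by
  refine le_antisymm (fun f hf => ?_) (presIdeal_le n hn)
  obtain ⟨g, h, e⟩ := exists_repr n f
  suffices hgh : inc n g + QsChow.xvar n * inc n h ∈ QsChow.presIdeal n by
    rw [← sub_add_cancel f (inc n g + QsChow.xvar n * inc n h)]; exact Ideal.add_mem _ e hgh
  have h0 : QsChow.phi n (inc n g + QsChow.xvar n * inc n h) = 0 := by
    have := presIdeal_le n hn e
    rw [RingHom.mem_ker, map_sub, RingHom.mem_ker.1 hf, zero_sub, neg_eq_zero] at this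
    exact this
  rw [phi_eq n hn, Ideal.Quotient.eq_zero_iff_mem] at h0
  obtain ⟨u, v, hg, hh⟩ := psi_mem n hn h0 (g := g) (h := ea n ^ (n - 1) * h) (by
    rw [map_add, map_add, map_mul, map_mul, psi_phiLift_inc, psi_phiLift_inc, psi_phiLift_x, map_mul]; ring)
  rw [(sum_split n hn u v).1] at hg
  rw [(sum_split n hn u v).2] at hh
  set T := univ.filter (fun i : Fin (QsChow.numVars n) => i.val ≠ 0) with hT
  have hv : ∀ i ∈ T, v i ∈ Ideal.span {ea n} ⊔ PI n hn := fun i hi =>
    coeff_mem_of_eq n hn u v (ea n ^ (n - 2) * h) (by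
      rw [← mul_assoc, ← pow_succ', show n - 2 + 1 = n - 1 by omega]; exact hh) i (mem_filter.1 hi).2
  let r := ∑ i ∈ T, v i * ea n ^ eexp n i
  have hw : h - ∑ i ∈ T, u i * ea n ^ eexp n i - ea n * (v (i0 n) + r) ∈ PI n hn := by
    refine mem_PI_of_pow_mul n hn (n - 1) ?_
    rw [mul_sub, mul_sub, hh, ← mul_assoc, ← pow_succ, show n - 1 + 1 = n by omega, mul_add, mul_sum, mul_sum,
      show ∀ a b c d : A n, a + b - c - (ea n ^ n * v (i0 n) + d) = (a - ea n ^ n * v (i0 n)) + (b - c - d) from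
        fun a b c d => by ring, mul_comm (v (i0 n)), sub_self, zero_add, ← sum_sub_distrib, ← sum_sub_distrib]
    refine Ideal.sum_mem _ fun i hi => ?_
    rw [mexp_eq n hn i (mem_filter.1 hi).2, pow_add]
    rw [show u i * (ea n ^ (n - 1) * ea n ^ eexp n i) + v i * (Pc n hn i + ea n * (ea n ^ (n - 1) * ea n ^ eexp n i)) -
        ea n ^ (n - 1) * (u i * ea n ^ eexp n i) - ea n ^ n * (v i * ea n ^ eexp n i) =
        v i * Pc n hn i + v i * ea n ^ eexp n i * (ea n * ea n ^ (n - 1) - ea n ^ n) by ring,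
      ← pow_succ', show n - 1 + 1 = n by omega, sub_self, mul_zero, add_zero]
    exact Ideal.mul_mem_left _ _ (Pc_mem n hn i (mem_filter.1 hi).2)
  rw [← sub_add_cancel h (∑ i ∈ T, u i * ea n ^ eexp n i),
    ← sub_add_cancel (h - ∑ i ∈ T, u i * ea n ^ eexp n i) (ea n * (v (i0 n) + r)), hg]
  simp only [map_add, mul_add, map_sum, map_mul, mul_sum]
  rw [show ∀ a b c d e : QsChow.FreeE n, a + b + (c + d + e) = a + c + d + (b + e) from fun a b c d e => by ring,
    ← sum_add_distrib]
  refine Ideal.add_mem _ (Ideal.add_mem _ (Ideal.add_mem _ (Ideal.mul_mem_left _ _ (pow_mem n))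
    (pow_mul_PI_mem n hn (by rw [← mul_add]; exact hw))) ?_) (Ideal.sum_mem _ fun i hi => ?_)
  · rw [← mul_add (QsChow.xvar n), ← mul_add (inc n (ea n)), ← mul_assoc]
    exact Ideal.mul_mem_right _ _ (x_ea_mem n)
  · have h1 := rel_mem n hn i (mem_filter.1 hi).2
    have h2 := inc_pow_mul_mem n hn (hv i hi) i (mem_filter.1 hi).2
    rw [map_mul] at h2
    rw [show inc n (u i) * inc n (Pc n hn i) + inc n (v i) * inc n (ea n ^ mexp n i) * inc n (eb n hn) +
        QsChow.xvar n * (inc n (u i) * inc n (ea n ^ eexp n i)) =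
        inc n (u i) * (inc n (Pc n hn i) + QsChow.xvar n * inc n (ea n ^ eexp n i)) +
          inc n (v i) * inc n (ea n ^ mexp n i) * inc n (eb n hn) by ring]
    exact Ideal.add_mem _ (Ideal.mul_mem_left _ _ h1) (Ideal.mul_mem_right _ _ h2)

include hn in
theorem range_phi (τ : QsChow.P n →ₐ[ZMod 2] QsChow.P n) (hτ1 : τ (QsChow.eps n 1) = QsChow.eps n 1)
    (hτ : ∀ j : ℕ, 2 ≤ j → j ≤ QsChow.numVars n →
      τ (QsChow.eps n j) = QsChow.eps n j + QsChow.eps n 1 ^ (2 * j - 3)) :
    (QsChow.phi n).range = AlgHom.equalizer τ (AlgHom.id (ZMod 2) (QsChow.P n)) := by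
  have h2 : τ (QsChow.eps n 2) = QsChow.eps n 2 + QsChow.eps n 1 := by
    simpa using hτ 2 le_rfl (two_le_numVars n hn)
  have han : QsChow.eps n 1 ^ n = 0 := by
    rw [eps_one, ← map_pow, Ideal.Quotient.eq_zero_iff_mem]
    exact Ideal.subset_span ⟨i0 n, by simp [QsChow.bound, i0]⟩
  have hfix : τ.comp (QsChow.phi n) = QsChow.phi n := by
    refine algHom_ext fun i => ?_
    rw [AlgHom.comp_apply, QsChow.phi, aeval_X]
    rcases i with - | i
    · simp only [QsChow.genImage, map_mul, map_pow, hτ1, h2]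
      rw [mul_add, ← pow_succ, show n - 1 + 1 = n by omega, han, add_zero]
    · simp only [QsChow.genImage]
      split_ifs with h0 h1
      · exact hτ1
      · rw [map_add, map_pow, map_mul, hτ1, h2]
        linear_combination two_eq_zero (QsChow.eps n 1 * QsChow.eps n 2) + two_eq_zero (QsChow.eps n 1 ^ 2)
      · rw [map_add, map_mul, map_pow, hτ1, h2, hτ _ (by omega) i.isLt,
          show 2 * (i.val + 1) - 3 = 2 * (i.val + 1) - 4 + 1 by omega, pow_succ]
        linear_combination two_eq_zero (QsChow.eps n 1 ^ (2 * (i.val + 1) - 4) * QsChow.eps n 1)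
  refine le_antisymm ?_ fun z hz => ?_
  · rintro _ ⟨y, rfl⟩
    exact congrArg (fun g : QsChow.FreeE n →ₐ[ZMod 2] QsChow.P n => g y) hfix
  · change τ z = z at hz
    obtain ⟨F, rfl⟩ := Ideal.Quotient.mk_surjective z
    obtain ⟨g, h, e⟩ := coord_exists n hn (psi n hn F)
    have eX : psi n hn (X (i1 n hn)) = rb n hn := by rw [psi_X]; simp [i1]
    have eF : F = phiLift n hn (inc n g) + phiLift n hn (inc n h) * X (i1 n hn) := psi_injective n hn (by
      rw [e, map_add, map_mul, psi_phiLift_inc, psi_phiLift_inc, eX])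
    rw [eF, map_add, map_mul, ← phi_eq, ← phi_eq, ← eps_two] at hz ⊢
    have hf' : ∀ y, τ (QsChow.phi n y) = QsChow.phi n y := fun y =>
      congrArg (fun g : QsChow.FreeE n →ₐ[ZMod 2] QsChow.P n => g y) hfix
    rw [map_add, map_mul, hf', hf', h2] at hz
    have h0 : QsChow.phi n (inc n (h * ea n)) = 0 := by
      rw [map_mul, map_mul, ← evar_one, show QsChow.phi n (QsChow.evar n 1) = QsChow.eps n 1 by
        rw [evar_one, inc, ea, rename_X, QsChow.phi, aeval_X]; simp [QsChow.genImage, i0]]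
      linear_combination hz
    rw [phi_eq n hn, Ideal.Quotient.eq_zero_iff_mem] at h0
    obtain ⟨u, v, hg, hh⟩ := psi_mem n hn h0 (g := h * ea n) (h := 0) (by
      rw [psi_phiLift_inc, map_zero, zero_mul, add_zero])
    rw [(sum_split n hn u v).1] at hg
    rw [(sum_split n hn u v).2] at hh
    set T := univ.filter (fun i : Fin (QsChow.numVars n) => i.val ≠ 0) with hT
    have hUmem : h * ea n ∈ Ideal.span {ea n ^ n} ⊔ PI n hn := by
      rw [hg]
      refine Ideal.add_mem _ (Ideal.mem_sup_left (Ideal.mul_mem_left _ _ (Ideal.mem_span_singleton_self _)))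
        (Ideal.sum_mem _ fun i hi => Ideal.add_mem _
          (Ideal.mem_sup_right (Ideal.mul_mem_left _ _ (Pc_mem n hn i (mem_filter.1 hi).2))) (Ideal.mul_mem_right _ _ ?_))
      obtain ⟨_, ha, p, hp, hpe⟩ := Submodule.mem_sup.1
        (coeff_mem_of_eq n hn u v 0 (by rw [mul_zero]; exact hh) i (mem_filter.1 hi).2)
      obtain ⟨c, rfl⟩ := Ideal.mem_span_singleton'.1 ha
      rw [← hpe, add_mul, mexp_eq n hn i (mem_filter.1 hi).2, pow_add, ← mul_assoc, mul_assoc c, ← pow_succ',
        show n - 1 + 1 = n by omega]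
      exact Ideal.add_mem _ (Ideal.mem_sup_left (Ideal.mul_mem_right _ _ (Ideal.mul_mem_left _ _
        (Ideal.mem_span_singleton_self _)))) (Ideal.mem_sup_right (Ideal.mul_mem_right _ _ hp))
    obtain ⟨_, ha, p, hp, hpe⟩ := Submodule.mem_sup.1 hUmem
    obtain ⟨c, rfl⟩ := Ideal.mem_span_singleton'.1 ha
    have hq : h - c * ea n ^ (n - 1) ∈ PI n hn := mem_PI_of_pow_mul n hn 1 (by
      rw [pow_one, mul_sub, mul_comm (ea n), ← hpe, mul_left_comm, ← pow_succ', show n - 1 + 1 = n by omega,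
        add_sub_cancel_left]
      exact hp)
    refine Subalgebra.add_mem _ ⟨_, rfl⟩ ?_
    rw [← sub_add_cancel h (c * ea n ^ (n - 1)), map_add, map_add, add_mul]
    refine Subalgebra.add_mem _ ?_ ?_
    · refine Submodule.span_induction (p := fun w _ =>
          QsChow.phi n (inc n w) * QsChow.eps n 2 ∈ (QsChow.phi n).range) ?_
        (by rw [map_zero, map_zero, zero_mul]; exact Subalgebra.zero_mem _)
        (fun a b _ _ ha hb => by rw [map_add, map_add, add_mul]; exact Subalgebra.add_mem _ ha hb)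
        (fun r a _ ha => by rw [smul_eq_mul, map_mul, map_mul, mul_assoc]; exact Subalgebra.mul_mem _ ⟨_, rfl⟩ ha) hq
      rintro _ ⟨i, hi, rfl⟩
      refine ⟨inc n (ea n ^ mexp n i * eb n hn), ?_⟩
      have hr : QsChow.phi n (inc n (Pc n hn i) + QsChow.xvar n * inc n (ea n ^ eexp n i)) = 0 :=
        presIdeal_le n hn (rel_mem n hn i hi)
      have hae : QsChow.phi n (inc n (ea n)) = QsChow.eps n 1 := by
        rw [inc, ea, rename_X, QsChow.phi, aeval_X]; simp [QsChow.genImage, i0]
      have hbe : QsChow.phi n (inc n (eb n hn)) = QsChow.eps n 2 ^ 2 + QsChow.eps n 1 * QsChow.eps n 2 := by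
        rw [inc, eb, rename_X, QsChow.phi, aeval_X]; simp [QsChow.genImage, i1]
      have hxe : QsChow.phi n (QsChow.xvar n) = QsChow.eps n 1 ^ (n - 1) * QsChow.eps n 2 := by
        rw [QsChow.xvar, QsChow.phi, aeval_X]; rfl
      rw [map_add, map_mul, map_pow, map_pow, hae, hxe] at hr
      change QsChow.phi n (inc n (ea n ^ mexp n i * eb n hn)) = _
      rw [map_mul, map_mul, map_pow, map_pow, hae, hbe, mexp_eq n hn i hi, pow_add]
      have hz' : QsChow.eps n 1 ^ (n - 1) * QsChow.eps n 1 = 0 := by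
        rw [← pow_succ, show n - 1 + 1 = n by omega, han]
      linear_combination (-QsChow.eps n 2) * hr + two_eq_zero (QsChow.eps n 1 ^ (n - 1) *
        QsChow.eps n 1 ^ eexp n i * QsChow.eps n 2 ^ 2) + (QsChow.eps n 1 ^ eexp n i * QsChow.eps n 2) * hz'
    · refine ⟨inc n c * QsChow.xvar n, ?_⟩
      change QsChow.phi n _ = _
      rw [map_mul, map_mul, map_mul, map_pow, map_pow]
      rw [show QsChow.phi n (inc n (ea n)) = QsChow.eps n 1 by
          rw [inc, ea, rename_X, QsChow.phi, aeval_X]; simp [QsChow.genImage, i0],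
        show QsChow.phi n (QsChow.xvar n) = QsChow.eps n 1 ^ (n - 1) * QsChow.eps n 2 by
          rw [QsChow.xvar, QsChow.phi, aeval_X]; rfl, mul_assoc]

end Groth.Agent.QsAlgLib
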