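import Groth.Prelude.Def_W4c4chowquasisplitNorm
import Groth.Agent.CycLib.Push
import Mathlib.AlgebraicGeometry.Morphisms.ClosedImmersion
import Mathlib.AlgebraicGeometry.Morphisms.Separated

/-!
# A scheme defined over an intermediate field has full norm subgroup
-/

set_option backward.isDefEq.respectTransparency false
set_option backward.isDefEq.respectTransparency.types false
set_option linter.style.haveILetI false

noncomputable section

universe u

open AlgebraicGeometry CategoryTheory CategoryTheory.Limits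

namespace Groth.Agent.QsAlgLib

theorem residueDegree_id {X : Scheme.{u}} (x : X) : (𝟙 X : X ⟶ X).residueDegree x = 1 := by
  letI : Algebra (X.residueField ((𝟙 X : X ⟶ X) x)) (X.residueField x) :=
    ((𝟙 X : X ⟶ X).residueFieldMap x).hom.toAlgebra
  have hb : Function.Bijective (algebraMap (X.residueField ((𝟙 X : X ⟶ X) x)) (X.residueField x)) :=
    (ConcreteCategory.bijective_of_isIso ((𝟙 X : X ⟶ X).residueFieldMap x))
  exact (AlgEquiv.ofBijective (Algebra.ofId _ _) hb).toLinearEquiv.finrank_eq.symm.trans (Module.finrank_self _)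

/-- Every cycle on a scheme with a section of `p` is a push-forward along `p`. -/
theorem exists_map_eq {X Y : Scheme.{u}} (p : Y ⟶ X) [QuasiCompact p] (s : X ⟶ Y) [QuasiCompact s]
    (hs : s ≫ p = 𝟙 X) (δ : X → ℤ) (j : ℤ) (α : AlgebraicCycle X ℤ) (hα : α ∈ Cyc.Zk X δ j) :
    ∃ β ∈ Cyc.Zk Y (δ ∘ ⇑p.base) j, AlgebraicCycle.map p (δ ∘ ⇑p.base) δ β = α := by
  classical
  have hps : ∀ x, p (s x) = x := fun x => by rw [← Scheme.Hom.comp_apply, hs]; rfl
  have hsval : ∀ z, AlgebraicCycle.map s δ (δ ∘ ⇑p.base) α z =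
      if z = s (p z) then α (p z) * (s.residueDegree (p z) : ℤ) else 0 := fun z => by
    rw [CycLib.map_apply']
    split_ifs with h
    · rw [show s ⁻¹' {z} = {p z} from Set.ext fun x => ⟨fun hx => by
          rw [← (hx : s x = z), hps]; rfl, fun hx => by rw [(hx : x = p z)]; exact h.symm⟩,
        finsum_mem_singleton, AlgebraicCycle.mapCoeff, if_pos]
      show δ (p z) = δ (p (s (p z)))
      rw [hps]
    · rw [show s ⁻¹' {z} = ∅ from Set.eq_empty_of_forall_notMem fun x hx => h (by
          rw [← (hx : s x = z), hps]), finsum_mem_empty]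
  refine ⟨AlgebraicCycle.map s δ (δ ∘ ⇑p.base) α, fun z hz => ?_, ?_⟩
  · rw [hsval]
    split_ifs with h
    · rw [hα (p z) hz, zero_mul]
    · rfl
  ext x
  rw [CycLib.map_apply']
  have hrd : p.residueDegree (s x) * s.residueDegree x = 1 := by
    rw [← CycLib.residueDegree_comp, hs, residueDegree_id]
  rw [finsum_mem_eq_sum_of_inter_support_eq (t := {s x}) _ (by
    ext z
    simp only [Set.mem_inter_iff, Set.mem_preimage, Set.mem_singleton_iff, Function.mem_support,
      Finset.coe_singleton]
    refine ⟨fun h => ⟨?_, h.2⟩, fun h => ⟨by rw [h.1]; exact hps x, h.2⟩⟩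
    have h2 := left_ne_zero_of_mul h.2
    rw [hsval] at h2
    by_contra h3
    exact h2 (if_neg fun h4 => h3 (h4.trans (congrArg s h.1)))), Finset.sum_singleton, hsval, hps,
    if_pos rfl, AlgebraicCycle.mapCoeff, if_pos (show (δ ∘ ⇑p.base) (s x) = δ (p (s x)) from rfl), mul_assoc]
  have : ((s.residueDegree x : ℤ) * (p.residueDegree (s x) : ℤ)) = 1 := by
    rw [mul_comm]; exact_mod_cast hrd
  rw [this, mul_one]

/-- A scheme defined over an intermediate field different from `k` has full norm subgroup. -/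
theorem normSubgroup_eq_top (k : Type u) [Field k] (K : Type u) [Field K] [Algebra k K]
    (F : IntermediateField k K) [FiniteDimensional k F] (hF : F ≠ ⊥)
    (X : Scheme.{u}) [X.Over (Spec (CommRingCat.of k))] (g : X ⟶ Spec (CommRingCat.of F))
    (hg : g ≫ Spec.map (CommRingCat.ofHom (algebraMap k F)) = X ↘ Spec (CommRingCat.of k))
    (δ : X → ℤ) (j : ℤ) : QsChow.normSubgroup k K X δ j = ⊤ := by
  refine eq_top_iff.2 fun c _ => ?_
  obtain ⟨⟨α, hα⟩, rfl⟩ := QuotientAddGroup.mk'_surjective _ c
  let p := Curv2.bcFst k X F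
  let s : X ⟶ Curv2.bc k X F := pullback.lift (𝟙 X) g (by rw [Category.id_comp, hg])
  have hsp : s ≫ p = 𝟙 X := pullback.lift_fst _ _ _
  haveI : IsSeparated p := MorphismProperty.pullback_fst _ _ inferInstance
  haveI : QuasiCompact p := MorphismProperty.pullback_fst _ _ inferInstance
  haveI : IsClosedImmersion (s ≫ p) := by rw [hsp]; infer_instance
  haveI : IsClosedImmersion s := IsClosedImmersion.of_comp s p
  obtain ⟨β, hβ, hβα⟩ := exists_map_eq p s hsp δ j α hα
  exact AddSubgroup.subset_closure ⟨F, inferInstance, hF, β, hβ, hβα.symm ▸ hα, by subst hβα; rfl⟩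

end Groth.Agent.QsAlgLib
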